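import Mathlib
import Cfsg.Agent.Lib.Linear.BNPair

/-!
Split `(B, N)`-pairs with root subgroups parametrised by a finite field: the elements raising the length, the
operators attached to the distinguished generators in a representation, and the functions induced from `B`.
-/

set_option autoImplicit false
set_option linter.unusedSectionVars false

namespace Cfsg.Lib.Chev.Weights

open Cfsg Cfsg.Lib.Linear

/-- A split `(B, N)`-pair in characteristic `p`. -/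
structure Split (G : Type*) [Group G] (F : Type*) [Field F] (p : ℕ) where
  /-- The pair. -/
  P : BNPair G
  /-- The unipotent radical of `B`. -/
  U : Subgroup G
  pU : IsPGroup p U
  U_le : U ≤ P.B
  split : ∀ b ∈ P.B, ∃ u ∈ U, ∃ t ∈ P.B ⊓ P.N, b = u * t
  norm : ∀ t ∈ P.B ⊓ P.N, ∀ u ∈ U, t * u * t⁻¹ ∈ U
  comm : ∀ a ∈ P.B ⊓ P.N, ∀ b ∈ P.B ⊓ P.N, a * b = b * a
  coprime : ¬ p ∣ Nat.card ↥(P.B ⊓ P.N)
  /-- The root element of a generator. -/
  x : P.S → F → G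
  x_mem : ∀ s a, x s a ∈ U
  x_add : ∀ s a b, x s a * x s b = x s (a + b)
  /-- The complement of a root subgroup. -/
  R : P.S → Subgroup G
  R_le : ∀ s, R s ≤ U
  R_conj : ∀ s : P.S, ∀ r ∈ R s, (s : G)⁻¹ * r * s ∈ U
  decomp : ∀ s, ∀ u ∈ U, ∃ a, ∃ r ∈ R s, u = x s a * r
  /-- The coroot of a generator. -/
  h : P.S → Fˣ →* G
  h_mem : ∀ s v, h s v ∈ P.B ⊓ P.N
  sq : ∀ s : P.S, (s : G) * s = h s (-1)
  rel : ∀ (s : P.S) (a : Fˣ), ∃ b b', (s : G) * x s a * s = x s b * ((s : G) * h s (-a)) * x s b'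
  conj : ∀ s : P.S, ∀ t ∈ P.B ⊓ P.N, ∃ v, (s : G)⁻¹ * t * s = t * h s v
  dich : ∀ s : P.S, ∀ n ∈ P.N, (∀ a, n⁻¹ * x s a * n ∈ U) ∨ (∀ a, ((s : G) * n)⁻¹ * x s a * ((s : G) * n) ∈ U)
  /-- An opposition. -/
  n0 : G
  n0_mem : n0 ∈ P.N
  n0_inter : ∀ u ∈ U, n0⁻¹ * u * n0 ∈ U → u = 1

variable {G : Type*} [Group G] [Finite G] {F : Type*} [Field F] [Fintype F] {p : ℕ} [Fact p.Prime]
  (S : Split G F p)

namespace Split

/-- The torus. -/
abbrev Tor : Subgroup G := S.P.B ⊓ S.P.N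

theorem x_zero (s : S.P.S) : S.x s 0 = 1 := by
  have := S.x_add s 0 0
  rw [add_zero] at this
  exact mul_eq_left.1 this

theorem x_inv (s : S.P.S) (a : F) : (S.x s a)⁻¹ = S.x s (-a) :=
  inv_eq_of_mul_eq_one_right (by rw [S.x_add, add_neg_cancel, S.x_zero])

theorem eq_one_of_mem {g : G} (hU : g ∈ S.U) (hT : g ∈ S.Tor) : g = 1 := by
  obtain ⟨j, hj⟩ := S.pU ⟨g, hU⟩
  have h1 : g ^ p ^ j = 1 := by simpa using congrArg Subtype.val hj
  have h2 : g ^ Nat.card S.Tor = 1 := by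
    simpa using congrArg Subtype.val (pow_card_eq_one' (x := (⟨g, hT⟩ : S.Tor)))
  have h3 := pow_gcd_eq_one.2 ⟨h1, h2⟩
  rwa [Nat.Coprime.gcd_eq_one (Nat.Coprime.pow_left _ ((Nat.Prime.coprime_iff_not_dvd Fact.out).2 S.coprime)),
    pow_one] at h3

theorem norm_inv {t u : G} (ht : t ∈ S.Tor) (hu : u ∈ S.U) : t⁻¹ * u * t ∈ S.U := by
  simpa using S.norm _ (inv_mem ht) u hu

theorem split_unique {u u' t t' : G} (hu : u ∈ S.U) (hu' : u' ∈ S.U) (ht : t ∈ S.Tor) (ht' : t' ∈ S.Tor)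
    (e : u * t = u' * t') : u = u' ∧ t = t' := by
  have h1 : u'⁻¹ * u = t' * t⁻¹ := by
    rw [eq_mul_inv_iff_mul_eq, mul_assoc, e, inv_mul_cancel_left]
  have h2 := S.eq_one_of_mem (mul_mem (inv_mem hu') hu) (h1 ▸ mul_mem ht' (inv_mem ht))
  have hu : u = u' := (inv_mul_eq_one.1 h2).symm
  subst hu
  exact ⟨rfl, mul_left_cancel e⟩

theorem mem_U_of_pow {b : G} (hb : b ∈ S.P.B) {j : ℕ} (h : b ^ p ^ j = 1) : b ∈ S.U := by
  obtain ⟨u, hu, t, ht, rfl⟩ := S.split b hb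
  have key : ∀ m : ℕ, ∃ w ∈ S.U, (u * t) ^ m = w * t ^ m := by
    intro m
    induction m with
    | zero => exact ⟨1, one_mem _, by simp⟩
    | succ m ih =>
      obtain ⟨w, hw, e⟩ := ih
      refine ⟨w * (t ^ m * u * (t ^ m)⁻¹), mul_mem hw (S.norm _ (pow_mem ht m) u hu), ?_⟩
      rw [pow_succ, e, pow_succ]
      group
  obtain ⟨w, hw, e⟩ := key (p ^ j)
  rw [h] at e
  have h1 : t ^ p ^ j = 1 := S.eq_one_of_mem (by rw [eq_inv_mul_of_mul_eq e.symm, mul_one]; exact inv_mem hw)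
    (pow_mem ht _)
  have h2 : t ^ Nat.card S.Tor = 1 := by
    simpa using congrArg Subtype.val (pow_card_eq_one' (x := (⟨t, ht⟩ : S.Tor)))
  have h3 := pow_gcd_eq_one.2 ⟨h1, h2⟩
  rw [Nat.Coprime.gcd_eq_one (Nat.Coprime.pow_left _ ((Nat.Prime.coprime_iff_not_dvd Fact.out).2 S.coprime)),
    pow_one] at h3
  rw [h3, mul_one]
  exact hu

/-- Equal products `u n t u'` have equal torus parts. -/
theorem cell_torus {n u u' v v' t t' : G} (hu : u ∈ S.U) (hu' : u' ∈ S.U) (hv : v ∈ S.U) (hv' : v' ∈ S.U)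
    (ht : t ∈ S.Tor) (ht' : t' ∈ S.Tor) (e : u * n * t * u' = v * n * t' * v') : t = t' := by
  have e1 : n⁻¹ * (v⁻¹ * u) * n = t' * (v' * u'⁻¹) * t⁻¹ := by
    rw [eq_mul_inv_iff_mul_eq, ← mul_assoc t', eq_mul_inv_iff_mul_eq]
    calc n⁻¹ * (v⁻¹ * u) * n * t * u' = n⁻¹ * v⁻¹ * (u * n * t * u') := by group
      _ = t' * v' := by rw [e]; group
  have hB : t' * (v' * u'⁻¹) * t⁻¹ ∈ S.P.B :=
    mul_mem (mul_mem ht'.1 (S.U_le (mul_mem hv' (inv_mem hu')))) (inv_mem ht.1)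
  obtain ⟨j, hj⟩ := S.pU ⟨_, mul_mem (inv_mem hv) hu⟩
  have hj' : (v⁻¹ * u) ^ p ^ j = 1 := by simpa using congrArg Subtype.val hj
  have hU := S.mem_U_of_pow hB (j := j) (by
    rw [← e1]
    have := conj_pow (a := n⁻¹) (b := v⁻¹ * u) (i := p ^ j)
    rw [inv_inv, hj', mul_one, inv_mul_cancel] at this
    exact this)
  refine ((S.split_unique hU (S.norm t' ht' _ (mul_mem hv' (inv_mem hu'))) ht ht' ?_).2)
  group

/-- The length goes up. -/
def Asc (s : S.P.S) (n : G) : Prop := BN.len S.P n < BN.len S.P ((s : G) * n)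

/-- The root subgroup of `s` stays positive. -/
def Pos (s : S.P.S) (n : G) : Prop := ∀ a, n⁻¹ * S.x s a * n ∈ S.U

theorem h_mul_mem (s : S.P.S) {n : G} (hn : n ∈ S.P.N) : (s : G) * n ∈ S.P.N := mul_mem (S.P.subset s.2) hn

theorem sxs_mem (s : S.P.S) {a : F} (ha : a ≠ 0) : (s : G) * S.x s a * s ∈ BN.cell S.P (s : G) := by
  obtain ⟨b, b', e⟩ := S.rel s (Units.mk0 a ha)
  rw [Units.val_mk0] at e
  exact BN.mem_cell.2 ⟨S.x s b, S.U_le (S.x_mem s b), S.h s (-Units.mk0 a ha) * S.x s b',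
    mul_mem (S.h_mem s _).1 (S.U_le (S.x_mem s b')), by rw [e]; group⟩

theorem inv_sxs_mem (s : S.P.S) {a : F} (ha : a ≠ 0) : (s : G)⁻¹ * S.x s a * s ∈ BN.cell S.P (s : G) := by
  have e : (s : G)⁻¹ * S.x s a * s = (S.h s (-1))⁻¹ * ((s : G) * S.x s a * s) * 1 := by rw [← S.sq]; group
  rw [e]
  exact BN.mul_mem_cell (S.sxs_mem s ha) (inv_mem (S.h_mem s _).1) (one_mem _)

theorem x_ne_one (s : S.P.S) {a : F} (ha : a ≠ 0) : S.x s a ≠ 1 := by
  intro h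
  have h1 := S.sxs_mem s ha
  rw [h, mul_one] at h1
  have h2 : (s : G) * s ∈ BN.cell S.P (1 : G) :=
    BN.mem_cell.2 ⟨_, S.P.sq_mem s s.2, 1, one_mem _, by group⟩
  refine BN.not_same_mul s.2 (one_mem S.P.N) ?_
  rw [mul_one]
  exact BN.same_of_mem_cell (one_mem _) (S.P.subset s.2) h2 h1

theorem len_sq (s : S.P.S) {n : G} (hn : n ∈ S.P.N) : BN.len S.P ((s : G) * ((s : G) * n)) = BN.len S.P n :=
  (BN.len_congr (BN.same_sq_mul s.2 hn)).symm

theorem asc_of_pos {s : S.P.S} {n : G} (hn : n ∈ S.P.N) (h : S.Pos s n) : S.Asc s n := by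
  by_contra hc
  have hlt : BN.len S.P ((s : G) * n) < BN.len S.P n :=
    lt_of_le_of_ne (not_lt.1 hc) (BN.len_mul_ne s.2 hn)
  set m := (s : G)⁻¹ * n with hm
  have hsame : BN.Same S.P m ((s : G) * n) := (BN.same_inv_S s.2).mul_right hn
  have hmN : m ∈ S.P.N := mul_mem (inv_mem (S.P.subset s.2)) hn
  have hsm : (s : G) * m = n := by rw [hm, mul_inv_cancel_left]
  have h1 := BN.cell_mul_of_le s.2 hmN (by rw [hsm, BN.len_congr hsame]; omega) (S.sxs_mem s one_ne_zero)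
    (BN.self_mem_cell m)
  rw [hsm] at h1
  have h2 : (s : G) * S.x s 1 * s * m ∈ BN.cell S.P ((s : G) * n) := by
    refine BN.mem_cell.2 ⟨1, one_mem _, n⁻¹ * S.x s 1 * n, S.U_le (h 1), ?_⟩
    rw [mul_assoc ((s : G) * S.x s 1), hsm]
    group
  exact BN.not_same_mul s.2 hn (BN.same_of_mem_cell hn (S.h_mul_mem s hn) h1 h2)

theorem pos_of_asc {s : S.P.S} {n : G} (hn : n ∈ S.P.N) (h : S.Asc s n) : S.Pos s n := by
  rcases S.dich s n hn with h' | h'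
  · exact h'
  · have := S.asc_of_pos (S.h_mul_mem s hn) h'
    unfold Asc at this h
    rw [S.len_sq s hn] at this
    omega

theorem not_pos_mul_n0 {s : S.P.S} {n : G} (h : S.Pos s n) : ¬ S.Pos s (n * S.n0) := fun h' => by
  have e := S.n0_inter _ (h 1) (by
    have := h' 1
    convert this using 1
    group)
  refine S.x_ne_one s (one_ne_zero (α := F)) ?_
  have e' : S.x s 1 = n * (n⁻¹ * S.x s 1 * n) * n⁻¹ := by group
  rw [e', e, mul_one, mul_inv_cancel]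

theorem asc_n0_iff {s : S.P.S} {n : G} (hn : n ∈ S.P.N) : S.Asc s (n * S.n0) ↔ ¬ S.Asc s n := by
  have hn' : n * S.n0 ∈ S.P.N := mul_mem hn S.n0_mem
  refine ⟨fun h h' => S.not_pos_mul_n0 (S.pos_of_asc hn h') (S.pos_of_asc hn' h), fun h => ?_⟩
  have h1 : ∀ a, ((s : G) * n)⁻¹ * S.x s a * ((s : G) * n) ∈ S.U :=
    (S.dich s n hn).resolve_left fun h' => h (S.asc_of_pos hn h')
  refine S.asc_of_pos hn' ((S.dich s (n * S.n0) hn').resolve_right fun h2 => ?_)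
  refine S.not_pos_mul_n0 (n := (s : G) * n) h1 ?_
  rwa [Pos, mul_assoc]

theorem exists_desc {n : G} (hn : n ∈ S.P.N) (h : n ∉ S.Tor) : ∃ s, ¬ S.Asc s n := by
  have hpos : 0 < BN.len S.P n := Nat.pos_of_ne_zero fun h' => h (BN.mem_T_of_len_eq_zero hn h')
  obtain ⟨s, hs, m, hm, hlt, hsame⟩ := BN.exists_head hn hpos
  refine ⟨⟨s, hs⟩, fun hasc => ?_⟩
  have h1 : BN.len S.P (s * n) = BN.len S.P m := by
    rw [← BN.len_congr (hsame.mul_left s), ← BN.len_congr (BN.same_sq_mul hs hm)]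
  unfold Asc at hasc
  simp only at hasc
  omega

end Split

end Cfsg.Lib.Chev.Weights
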