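import Mathlib
import Cfsg.Agent.Lib.Chev.Weights.Split

/-!
The operator of a distinguished generator on the vectors fixed by `U`, and the functions induced from a character
of the torus.
-/

set_option autoImplicit false
set_option linter.unusedSectionVars false

namespace Cfsg.Lib.Chev.Weights

open Cfsg Cfsg.Lib.Linear

variable {G : Type*} [Group G] [Finite G] {F : Type*} [Field F] [Fintype F] [DecidableEq F] {p : ℕ} [Fact p.Prime]
  (S : Split G F p) {k : Type} [Field k] [CharP k p]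

theorem sum_field {M : Type*} [AddCommMonoid M] (f : F → M) : ∑ a, f a = f 0 + ∑ u : Fˣ, f (u : F) := by
  classical
  have e : ∑ a ∈ Finset.univ.erase (0 : F), f a = ∑ u : Fˣ, f (u : F) :=
    (Finset.sum_bij (fun (u : Fˣ) _ => (u : F)) (fun u _ => Finset.mem_erase.2 ⟨u.ne_zero, Finset.mem_univ _⟩)
      (fun _ _ _ _ h => Units.ext h)
      (fun b hb => ⟨Units.mk0 b (Finset.mem_erase.1 hb).1, Finset.mem_univ _, rfl⟩) (fun _ _ => rfl)).symm
  rw [← e, Finset.add_sum_erase _ _ (Finset.mem_univ 0)]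

namespace Split

/-- A character of the torus, extended by zero. -/
noncomputable def ev (χ : ↥S.Tor →* k) (g : G) : k := by
  classical exact if h : g ∈ S.Tor then χ ⟨g, h⟩ else 0

theorem ev_eq (χ : ↥S.Tor →* k) {g : G} (h : g ∈ S.Tor) : S.ev χ g = χ ⟨g, h⟩ := by
  simp [ev, h]

theorem ev_mul (χ : ↥S.Tor →* k) {a b : G} (ha : a ∈ S.Tor) (hb : b ∈ S.Tor) :
    S.ev χ (a * b) = S.ev χ a * S.ev χ b := by
  rw [S.ev_eq χ ha, S.ev_eq χ hb, S.ev_eq χ (mul_mem ha hb), ← map_mul]; rfl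

theorem ev_one (χ : ↥S.Tor →* k) : S.ev χ 1 = 1 := by
  rw [S.ev_eq χ (one_mem _)]; exact map_one χ

theorem ev_inv (χ : ↥S.Tor →* k) {a : G} (ha : a ∈ S.Tor) : S.ev χ a⁻¹ = (S.ev χ a)⁻¹ := by
  refine eq_inv_of_mul_eq_one_left ?_
  rw [← S.ev_mul χ (inv_mem ha) ha, inv_mul_cancel, S.ev_one]

theorem ev_ne_zero (χ : ↥S.Tor →* k) {a : G} (ha : a ∈ S.Tor) : S.ev χ a ≠ 0 := fun h => by
  have := S.ev_mul χ (inv_mem ha) ha
  rw [inv_mul_cancel, S.ev_one, h, mul_zero] at this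
  exact one_ne_zero this

theorem conjT {n t : G} (hn : n ∈ S.P.N) (ht : t ∈ S.Tor) : n⁻¹ * t * n ∈ S.Tor := BN.conj_mem_T' hn ht

/-- The character `t ↦ χ (n⁻¹ t n)`. -/
noncomputable def tw (χ : ↥S.Tor →* k) (n : ↥S.P.N) : ↥S.Tor →* k where
  toFun t := S.ev χ ((n : G)⁻¹ * t * n)
  map_one' := by simp [S.ev_one]
  map_mul' a b := by
    rw [← S.ev_mul χ (S.conjT n.2 a.2) (S.conjT n.2 b.2), Subgroup.coe_mul]
    congr 1
    group

theorem ev_tw (χ : ↥S.Tor →* k) (n : ↥S.P.N) {t : G} (ht : t ∈ S.Tor) :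
    S.ev (S.tw χ n) t = S.ev χ ((n : G)⁻¹ * t * n) := by rw [S.ev_eq _ ht]; rfl

/-- Trivial on the image of the coroot of `s`. -/
def Triv (χ : ↥S.Tor →* k) (s : S.P.S) : Prop := ∀ v, S.ev χ (S.h s v) = 1

theorem ev_conj_of_triv {χ : ↥S.Tor →* k} {s : S.P.S} (h : S.Triv χ s) {t : G} (ht : t ∈ S.Tor) :
    S.ev χ ((s : G)⁻¹ * t * s) = S.ev χ t := by
  obtain ⟨v, e⟩ := S.conj s t ht
  rw [e, S.ev_mul χ ht (S.h_mem s v), h v, mul_one]

/-- The constant of the quadratic relation. -/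
noncomputable def cc (χ : ↥S.Tor →* k) (s : S.P.S) : k := ∑ u : Fˣ, S.ev χ (S.h s u)

theorem card_eq_zero [CharP F p] : (Fintype.card F : k) = 0 := by
  obtain ⟨n, -, e⟩ := FiniteField.card F p
  rw [e, Nat.cast_pow, CharP.cast_eq_zero, zero_pow n.ne_zero]

theorem cc_triv [CharP F p] {χ : ↥S.Tor →* k} {s : S.P.S} (h : S.Triv χ s) : S.cc χ s = -1 := by
  classical
  have h1 : ((Fintype.card F : ℕ) : k) = (Fintype.card Fˣ : k) + 1 := by
    rw [← Nat.cast_one (R := k), ← Nat.cast_add, Fintype.card_units]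
    congr 1
    have := Fintype.card_pos (α := F)
    omega
  rw [card_eq_zero (p := p)] at h1
  simp only [cc, h _, Finset.sum_const, Finset.card_univ, nsmul_eq_mul, mul_one]
  exact eq_neg_of_add_eq_zero_left h1.symm

theorem cc_eq_zero {χ : ↥S.Tor →* k} {s : S.P.S} (h : ¬ S.Triv χ s) : S.cc χ s = 0 := by
  classical
  let f : Fˣ →* k :=
    { toFun := fun u => S.ev χ (S.h s u)
      map_one' := by rw [map_one, S.ev_one]
      map_mul' := fun a b => by rw [map_mul, S.ev_mul χ (S.h_mem s a) (S.h_mem s b)] }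
  exact sum_hom_units_eq_zero f fun hf => h fun v => DFunLike.congr_fun hf v

variable {V : Type*} [AddCommGroup V] [Module k V] (ρ : Representation k G V)

/-- Fixed by `U`. -/
def Inv (v : V) : Prop := ∀ u ∈ S.U, ρ u v = v

/-- An eigenvector of the torus. -/
def Eig (χ : ↥S.Tor →* k) (v : V) : Prop := ∀ t ∈ S.Tor, ρ t v = S.ev χ t • v

/-- The operator of `s`. -/
noncomputable def th (s : S.P.S) : V →ₗ[k] V := ∑ a : F, ρ (S.x s a * s)

theorem th_apply (s : S.P.S) (v : V) : S.th ρ s v = ∑ a : F, ρ (S.x s a * s) v := by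
  simp [th, LinearMap.sum_apply]

variable {ρ}

theorem th_map {W : Type*} [AddCommGroup W] [Module k W] {σ : Representation k G W} (φ : V →ₗ[k] W)
    (hφ : ∀ g v, φ (ρ g v) = σ g (φ v)) (s : S.P.S) (v : V) : φ (S.th ρ s v) = S.th σ s (φ v) := by
  simp [th_apply, map_sum, hφ]

theorem inv_map {W : Type*} [AddCommGroup W] [Module k W] {σ : Representation k G W} (φ : V →ₗ[k] W)
    (hφ : ∀ g v, φ (ρ g v) = σ g (φ v)) {v : V} (h : S.Inv ρ v) : S.Inv σ (φ v) :=
  fun u hu => by rw [← hφ, h u hu]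

theorem eig_map {W : Type*} [AddCommGroup W] [Module k W] {σ : Representation k G W} (φ : V →ₗ[k] W)
    (hφ : ∀ g v, φ (ρ g v) = σ g (φ v)) {χ : ↥S.Tor →* k} {v : V} (h : S.Eig ρ χ v) : S.Eig σ χ (φ v) :=
  fun t ht => by rw [← hφ, h t ht, map_smul]

theorem inv_th (s : S.P.S) {v : V} (hv : S.Inv ρ v) : S.Inv ρ (S.th ρ s v) := by
  intro u hu
  choose π r hr e using fun a => S.decomp s (u * S.x s a) (mul_mem hu (S.x_mem s a))
  have hval : ∀ a, ρ u (ρ (S.x s a * s) v) = ρ (S.x s (π a) * s) v := by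
    intro a
    conv_rhs => rw [← hv _ (S.R_conj s _ (hr a))]
    rw [← Module.End.mul_apply, ← map_mul, ← Module.End.mul_apply, ← map_mul, ← mul_assoc, e a]
    congr 2
    group
  have hinj : Function.Injective π := by
    intro a b hab
    by_contra hne
    have hd : -b + a ≠ 0 := fun h => hne (neg_add_eq_zero.1 h).symm
    have h1 : S.x s (-b + a) = (r b)⁻¹ * r a := by
      rw [← S.x_add, ← S.x_inv]
      have ea := e a
      have eb := e b
      rw [hab] at ea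
      have ea' : S.x s a = u⁻¹ * (S.x s (π b) * r a) := by rw [← ea]; group
      have eb' : S.x s b = u⁻¹ * (S.x s (π b) * r b) := by rw [← eb]; group
      rw [ea', eb']
      group
    have h2 : (s : G)⁻¹ * S.x s (-b + a) * s ∈ S.U := S.R_conj s _ (h1 ▸ mul_mem (inv_mem (hr b)) (hr a))
    have h3 : (s : G)⁻¹ * S.x s (-b + a) * s ∈ BN.cell S.P (1 : G) :=
      BN.mem_cell.2 ⟨_, S.U_le h2, 1, one_mem _, by group⟩
    refine BN.not_same_mul s.2 (one_mem S.P.N) ?_
    rw [mul_one]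
    exact BN.same_of_mem_cell (one_mem _) (S.P.subset s.2) h3 (S.inv_sxs_mem s hd)
  rw [th_apply, map_sum]
  simp only [hval]
  exact (Finite.injective_iff_bijective.1 hinj).sum_comp fun a => ρ (S.x s a * s) v

theorem th_th [CharP F p] (s : S.P.S) {χ : ↥S.Tor →* k} {v : V} (hv : S.Inv ρ v) (he : S.Eig ρ χ v) :
    S.th ρ s (S.th ρ s v) = S.cc χ s • S.th ρ s v := by
  have hstep : ∀ b a : F, ρ (S.x s b * s) (ρ (S.x s a * s) v) = ρ (S.x s b * ((s : G) * S.x s a * s)) v := by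
    intro b a
    rw [← Module.End.mul_apply, ← map_mul]
    congr 2
    group
  have h0 : ∀ b : F, ρ (S.x s b * ((s : G) * S.x s 0 * s)) v = S.ev χ (S.h s (-1)) • v := by
    intro b
    rw [S.x_zero, mul_one, S.sq, map_mul, Module.End.mul_apply, he _ (S.h_mem s _), map_smul, hv _ (S.x_mem s b)]
  have h1 : ∀ u : Fˣ, ∑ b : F, ρ (S.x s b * ((s : G) * S.x s u * s)) v = S.ev χ (S.h s (-u)) • S.th ρ s v := by
    intro u
    obtain ⟨c, c', e⟩ := S.rel s u
    have hb : ∀ b, ρ (S.x s b * ((s : G) * S.x s u * s)) v = S.ev χ (S.h s (-u)) • ρ (S.x s (b + c) * s) v := by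
      intro b
      have e' : S.x s b * ((s : G) * S.x s u * s) = (S.x s (b + c) * s) * (S.h s (-u) * S.x s c') := by
        rw [e, ← S.x_add]; group
      rw [e', map_mul, Module.End.mul_apply, map_mul (f := ρ) (S.h s (-u)), Module.End.mul_apply,
        hv _ (S.x_mem s c'), he _ (S.h_mem s _), map_smul]
    simp only [hb, ← Finset.smul_sum, th_apply]
    congr 1
    exact (Equiv.addRight c).bijective.sum_comp fun b => ρ (S.x s b * s) v
  rw [th_apply, th_apply]
  simp only [map_sum, hstep]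
  rw [Finset.sum_comm, sum_field]
  simp only [h0, h1, Finset.sum_const, Finset.card_univ]
  rw [← Nat.cast_smul_eq_nsmul k, card_eq_zero (p := p), zero_smul, zero_add, ← th_apply]
  rw [cc, ← Finset.sum_smul]
  congr 1
  exact Fintype.sum_equiv (Equiv.neg Fˣ) _ _ fun u => rfl

/-- A weight vector: fixed by `U`, an eigenvector of the torus and of the operators. -/
def IsWeight (ρ : Representation k G V) (χ : ↥S.Tor →* k) (J : Set S.P.S) (v : V) : Prop :=
  v ≠ 0 ∧ S.Inv ρ v ∧ S.Eig ρ χ v ∧ (∀ s ∈ J, S.Triv χ s) ∧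
    ∀ s, (s ∈ J → S.th ρ s v = -v) ∧ (s ∉ J → S.th ρ s v = 0)

theorem weight_map {W : Type*} [AddCommGroup W] [Module k W] {σ : Representation k G W} (φ : V →ₗ[k] W)
    (hφ : ∀ g v, φ (ρ g v) = σ g (φ v)) {χ : ↥S.Tor →* k} {J : Set S.P.S} {v : V} (h : S.IsWeight ρ χ J v)
    (h0 : φ v ≠ 0) : S.IsWeight σ χ J (φ v) := by
  obtain ⟨-, h2, h3, h4, h5⟩ := h
  refine ⟨h0, S.inv_map φ hφ h2, S.eig_map φ hφ h3, h4, fun s => ⟨fun hs => ?_, fun hs => ?_⟩⟩
  · rw [← S.th_map φ hφ, (h5 s).1 hs, map_neg]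
  · rw [← S.th_map φ hφ, (h5 s).2 hs, map_zero]

/-- The condition to be a weight vector, scalar by scalar. -/
theorem isWeight_of_scalar [CharP F p] {χ : ↥S.Tor →* k} {v : V} (hv0 : v ≠ 0) (hv : S.Inv ρ v) (he : S.Eig ρ χ v)
    (h : ∀ s, ∃ e : k, S.th ρ s v = e • v) : ∃ J, S.IsWeight ρ χ J v := by
  choose e hth using h
  have key : ∀ s, e s = 0 ∨ (e s = -1 ∧ S.Triv χ s) := by
    intro s
    by_cases h0 : e s = 0
    · exact Or.inl h0
    have h1 := S.th_th s hv he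
    rw [hth, map_smul, hth, smul_smul, smul_smul] at h1
    have h2 := mul_right_cancel₀ h0 (smul_left_injective k hv0 h1)
    refine Or.inr ?_
    by_cases ht : S.Triv χ s
    · exact ⟨h2.trans (S.cc_triv ht), ht⟩
    · exact absurd (h2.trans (S.cc_eq_zero ht)) h0
  refine ⟨{s | e s ≠ 0}, hv0, hv, he, fun s hs => ((key s).resolve_left hs).2, fun s => ⟨fun hs => ?_, fun hs => ?_⟩⟩
  · rw [hth, ((key s).resolve_left hs).1, neg_one_smul]
  · rw [hth, not_not.1 hs, zero_smul]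

theorem mem_span_root {χ : ↥S.Tor →* k} {J : Set S.P.S} {v : V} (h : S.IsWeight ρ χ J v) (s : S.P.S) :
    v ∈ Submodule.span k (Set.range fun a : F => ρ (S.x s a * s) v) := by
  obtain ⟨-, hv, he, -, hth⟩ := h
  obtain ⟨e, hev⟩ : ∃ e : k, S.th ρ s v = e • v := by
    by_cases hs : s ∈ J
    · exact ⟨-1, by rw [(hth s).1 hs, neg_one_smul]⟩
    · exact ⟨0, by rw [(hth s).2 hs, zero_smul]⟩
  set Y := Submodule.span k (Set.range fun a : F => ρ (S.x s a * s) v)
  have hsv : ρ (s : G) v ∈ Y := Submodule.subset_span ⟨0, by simp [S.x_zero]⟩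
  have h1 : ρ (s : G) (S.th ρ s v) = S.ev χ (S.h s (-1)) • v + ∑ u : Fˣ, ρ ((s : G) * S.x s u * s) v := by
    rw [th_apply, map_sum, sum_field]
    simp only [← Module.End.mul_apply, ← map_mul, ← mul_assoc]
    rw [S.x_zero, mul_one, S.sq, he _ (S.h_mem s _)]
  have h2 : ∀ u : Fˣ, ρ ((s : G) * S.x s u * s) v ∈ Y := fun u => by
    obtain ⟨c, c', e⟩ := S.rel s u
    rw [e, show S.x s c * ((s : G) * S.h s (-u)) * S.x s c' = (S.x s c * s) * (S.h s (-u) * S.x s c') by group,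
      map_mul, Module.End.mul_apply, map_mul (f := ρ) (S.h s (-u)), Module.End.mul_apply, hv _ (S.x_mem s c'),
      he _ (S.h_mem s _), map_smul]
    exact Y.smul_mem _ (Submodule.subset_span ⟨c, rfl⟩)
  have h3 : S.ev χ (S.h s (-1)) • v ∈ Y := by
    rw [hev, map_smul] at h1
    rw [eq_sub_of_add_eq h1.symm]
    exact Y.sub_mem (Y.smul_mem _ hsv) (Y.sum_mem fun u _ => h2 u)
  exact (Y.smul_mem_iff (S.ev_ne_zero χ (S.h_mem s _))).1 h3

end Split

end Cfsg.Lib.Chev.Weights
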