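import Mathlib
import Cfsg.Agent.Lib.Chev.Weights.Op

/-!
The functions induced from a character of the torus, and the functions supported by one cell.
-/

set_option autoImplicit false
set_option linter.unusedSectionVars false

namespace Cfsg.Lib.Chev.Weights

open Cfsg Cfsg.Lib.Linear

variable {G : Type*} [Group G] [Finite G] {F : Type*} [Field F] [Fintype F] [DecidableEq F] {p : ℕ} [Fact p.Prime]
  (S : Split G F p) {k : Type} [Field k] [CharP k p]

namespace Split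

/-- The functions with `f (g u t) = χ (t)⁻¹ f g`. -/
def Ind (χ : ↥S.Tor →* k) : Submodule k (G → k) where
  carrier := {f | ∀ g, ∀ u ∈ S.U, ∀ t ∈ S.Tor, f (g * (u * t)) = (S.ev χ t)⁻¹ * f g}
  add_mem' := fun {a b} ha hb g u hu t ht => by simp [ha g u hu t ht, hb g u hu t ht, mul_add]
  zero_mem' := fun g u hu t ht => by simp
  smul_mem' := fun c f hf g u hu t ht => by simp [hf g u hu t ht]; ring

/-- Left translation. -/
def L (χ : ↥S.Tor →* k) : Representation k G ↥(S.Ind χ) where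
  toFun g :=
    { toFun := fun f => ⟨fun x => (f : G → k) (g⁻¹ * x), fun x u hu t ht => by
        show (f : G → k) (g⁻¹ * (x * (u * t))) = _
        rw [← mul_assoc]
        exact f.2 (g⁻¹ * x) u hu t ht⟩
      map_add' := fun a b => rfl
      map_smul' := fun c a => rfl }
  map_one' := LinearMap.ext fun f => Subtype.ext (funext fun x => by simp)
  map_mul' g h := LinearMap.ext fun f => Subtype.ext (funext fun x => by simp [mul_assoc])

theorem L_apply (χ : ↥S.Tor →* k) (g : G) (f : ↥(S.Ind χ)) (x : G) :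
    ((S.L χ g f : ↥(S.Ind χ)) : G → k) x = (f : G → k) (g⁻¹ * x) := rfl

theorem inv_left {χ : ↥S.Tor →* k} {f : ↥(S.Ind χ)} (hf : S.Inv (S.L χ) f) {u : G} (hu : u ∈ S.U) (x : G) :
    (f : G → k) (u * x) = (f : G → k) x := by
  have := congrFun (congrArg Subtype.val (hf u⁻¹ (inv_mem hu))) x
  rwa [L_apply, inv_inv] at this

/-- The torus part of `g` in the cell of `n`. -/
def InCell (n g : G) (t : G) : Prop := t ∈ S.Tor ∧ ∃ u ∈ S.U, ∃ u' ∈ S.U, g = u * n * t * u'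

theorem inCell_unique {n g t t' : G} (h : S.InCell n g t) (h' : S.InCell n g t') : t = t' := by
  obtain ⟨ht, u, hu, u', hu', rfl⟩ := h
  obtain ⟨ht', v, hv, v', hv', e⟩ := h'
  exact S.cell_torus hu hu' hv hv' ht ht' e

theorem inCell_right {n g t u t' : G} (h : S.InCell n g t) (hu : u ∈ S.U) (ht' : t' ∈ S.Tor) :
    S.InCell n (g * (u * t')) (t * t') := by
  obtain ⟨ht, a, ha, b, hb, rfl⟩ := h
  exact ⟨mul_mem ht ht', a, ha, t'⁻¹ * (b * u) * t', S.norm_inv ht' (mul_mem hb hu), by group⟩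

theorem inCell_cell {n g t : G} (h : S.InCell n g t) : g ∈ BN.cell S.P n := by
  obtain ⟨ht, u, hu, u', hu', rfl⟩ := h
  exact BN.mem_cell.2 ⟨u, S.U_le hu, t * u', mul_mem ht.1 (S.U_le hu'), by group⟩

theorem exists_inCell {n g : G} (hn : n ∈ S.P.N) (h : g ∈ BN.cell S.P n) : ∃ t, S.InCell n g t := by
  obtain ⟨b, hb, c, hc, rfl⟩ := BN.mem_cell.1 h
  obtain ⟨u, hu, t, ht, rfl⟩ := S.split b hb
  obtain ⟨v, hv, r, hr, rfl⟩ := S.split c hc
  exact ⟨(n⁻¹ * t * n) * r, mul_mem (S.conjT hn ht) hr, u, hu, r⁻¹ * v * r, S.norm_inv hr hv, by group⟩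

/-- The function of the cell of `n`. -/
noncomputable def cf (χ : ↥S.Tor →* k) (n : G) : ↥(S.Ind χ) :=
  ⟨fun g => by classical exact if h : ∃ t, S.InCell n g t then (S.ev χ h.choose)⁻¹ else 0, fun g u hu t ht => by
    classical
    by_cases h : ∃ r, S.InCell n g r
    · have h' : ∃ r, S.InCell n (g * (u * t)) r := ⟨_, S.inCell_right h.choose_spec hu ht⟩
      simp only [dif_pos h, dif_pos h', S.inCell_unique h'.choose_spec (S.inCell_right h.choose_spec hu ht),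
        S.ev_mul χ h.choose_spec.1 ht, mul_inv, mul_comm]
    · have h' : ¬ ∃ r, S.InCell n (g * (u * t)) r := by
        rintro ⟨r, hr⟩
        refine h ⟨r * t⁻¹, ?_⟩
        have := S.inCell_right hr (u := t⁻¹ * u⁻¹ * t) (t' := t⁻¹) (S.norm_inv ht (inv_mem hu)) (inv_mem ht)
        have e : g * (u * t) * (t⁻¹ * u⁻¹ * t * t⁻¹) = g := by group
        rwa [e] at this
      simp only [dif_neg h, dif_neg h', mul_zero]⟩

theorem cf_of_inCell (χ : ↥S.Tor →* k) {n g t : G} (h : S.InCell n g t) :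
    (S.cf χ n : G → k) g = (S.ev χ t)⁻¹ := by
  have h' : ∃ r, S.InCell n g r := ⟨t, h⟩
  simp only [cf, dif_pos h', S.inCell_unique h'.choose_spec h]

theorem cf_eq_zero (χ : ↥S.Tor →* k) {n g : G} (hn : n ∈ S.P.N) (h : g ∉ BN.cell S.P n) :
    (S.cf χ n : G → k) g = 0 := by
  have h' : ¬ ∃ r, S.InCell n g r := fun ⟨r, hr⟩ => h (S.inCell_cell hr)
  simp only [cf, dif_neg h']

theorem cf_self (χ : ↥S.Tor →* k) (n : G) : (S.cf χ n : G → k) n = 1 := by
  rw [S.cf_of_inCell χ (t := 1) ⟨one_mem _, 1, one_mem _, 1, one_mem _, by simp⟩, S.ev_one, inv_one]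

theorem cf_ne_zero (χ : ↥S.Tor →* k) (n : G) : S.cf χ n ≠ 0 := fun h => by
  have := S.cf_self χ n
  rw [h] at this
  exact zero_ne_one this

theorem inv_cf (χ : ↥S.Tor →* k) {n : G} (hn : n ∈ S.P.N) : S.Inv (S.L χ) (S.cf χ n) := by
  intro u hu
  refine Subtype.ext (funext fun x => ?_)
  rw [L_apply]
  by_cases h : x ∈ BN.cell S.P n
  · obtain ⟨t, ht⟩ := S.exists_inCell hn h
    obtain ⟨ht', a, ha, b, hb, e⟩ := ht
    rw [S.cf_of_inCell χ ⟨ht', u⁻¹ * a, mul_mem (inv_mem hu) ha, b, hb, by rw [e]; group⟩,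
      S.cf_of_inCell χ ⟨ht', a, ha, b, hb, e⟩]
  · rw [S.cf_eq_zero χ hn h, S.cf_eq_zero χ hn fun h' => h (by
      have := BN.mul_mem_cell h' (S.U_le hu) (one_mem S.P.B)
      simpa using this)]

theorem eig_cf (χ : ↥S.Tor →* k) (n : ↥S.P.N) : S.Eig (S.L χ) (S.tw χ n) (S.cf χ n) := by
  intro t ht
  rw [S.ev_tw χ n ht]
  refine Subtype.ext (funext fun x => ?_)
  rw [L_apply, SetLike.val_smul, Pi.smul_apply, smul_eq_mul]
  by_cases h : x ∈ BN.cell S.P (n : G)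
  · obtain ⟨r, hr⟩ := S.exists_inCell n.2 h
    obtain ⟨hr', a, ha, b, hb, e⟩ := hr
    rw [S.cf_of_inCell χ (t := ((n : G)⁻¹ * t * n)⁻¹ * r)
        ⟨mul_mem (inv_mem (S.conjT n.2 ht)) hr', t⁻¹ * a * t, S.norm_inv ht ha, b, hb, by rw [e]; group⟩,
      S.cf_of_inCell χ ⟨hr', a, ha, b, hb, e⟩, S.ev_mul χ (inv_mem (S.conjT n.2 ht)) hr',
      S.ev_inv χ (S.conjT n.2 ht), mul_inv, inv_inv]
  · rw [S.cf_eq_zero χ n.2 h, mul_zero, S.cf_eq_zero χ n.2 fun h' => h (by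
      have := BN.mul_mem_cell h' ht.1 (one_mem S.P.B)
      simpa using this)]

/-- A function fixed by `U` and supported by a cell is a multiple of the function of that cell. -/
theorem eq_smul_cf {χ : ↥S.Tor →* k} {f : ↥(S.Ind χ)} (hf : S.Inv (S.L χ) f) {n : G} (hn : n ∈ S.P.N)
    (hsupp : ∀ g, g ∉ BN.cell S.P n → (f : G → k) g = 0) : f = (f : G → k) n • S.cf χ n := by
  refine Subtype.ext (funext fun g => ?_)
  rw [SetLike.val_smul, Pi.smul_apply, smul_eq_mul]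
  by_cases h : g ∈ BN.cell S.P n
  · obtain ⟨t, ht⟩ := S.exists_inCell hn h
    rw [S.cf_of_inCell χ ht]
    obtain ⟨ht', a, ha, b, hb, rfl⟩ := ht
    rw [show a * n * t * b = a * (n * ((t * b * t⁻¹) * t)) by group, S.inv_left hf ha,
      f.2 n _ (S.norm t ht' b hb) t ht', mul_comm]
  · rw [hsupp g h, S.cf_eq_zero χ hn h, mul_zero]

theorem cf_mul_tor (χ : ↥S.Tor →* k) {n t : G} (hn : n ∈ S.P.N) (ht : t ∈ S.Tor) :
    S.cf χ (n * t) = S.ev χ t • S.cf χ n := by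
  have hnt : n * t ∈ S.P.N := mul_mem hn ht.2
  have hcell : BN.cell S.P (n * t) = BN.cell S.P n := ((BN.same_mul_T ht).cell_eq).symm
  conv_lhs => rw [S.eq_smul_cf (S.inv_cf χ hnt) hn fun g hg => S.cf_eq_zero χ hnt (by rwa [hcell])]
  congr 1
  rw [S.cf_of_inCell χ (t := t⁻¹) ⟨inv_mem ht, 1, one_mem _, 1, one_mem _, by group⟩, S.ev_inv χ ht, inv_inv]

theorem th_cf_asc (χ : ↥S.Tor →* k) {n : G} (hn : n ∈ S.P.N) {s : S.P.S} (h : S.Asc s n) :
    S.th (S.L χ) s (S.cf χ n) = S.cf χ ((s : G) * n) := by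
  have hsn := S.h_mul_mem s hn
  have hxs : ∀ a, S.x s a * s ∈ BN.cell S.P (s : G) := fun a =>
    BN.mem_cell.2 ⟨S.x s a, S.U_le (S.x_mem s a), 1, one_mem _, by group⟩
  have hval : ∀ g, ((S.th (S.L χ) s (S.cf χ n) : ↥(S.Ind χ)) : G → k) g =
      ∑ a : F, (S.cf χ n : G → k) ((S.x s a * s)⁻¹ * g) := fun g => by
    rw [th_apply, AddSubmonoidClass.coe_finset_sum, Finset.sum_apply]
    exact Finset.sum_congr rfl fun a _ => L_apply S χ _ _ g
  have hsupp : ∀ g, g ∉ BN.cell S.P ((s : G) * n) → ((S.th (S.L χ) s (S.cf χ n) : ↥(S.Ind χ)) : G → k) g = 0 := by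
    intro g hg
    rw [hval]
    refine Finset.sum_eq_zero fun a _ => S.cf_eq_zero χ hn fun h' => hg ?_
    have := BN.cell_mul_of_le s.2 hn h.le (hxs a) h'
    rwa [mul_inv_cancel_left] at this
  have h1 : ((S.th (S.L χ) s (S.cf χ n) : ↥(S.Ind χ)) : G → k) ((s : G) * n) = 1 := by
    rw [hval, Finset.sum_eq_single (0 : F)]
    · rw [S.x_zero, one_mul, inv_mul_cancel_left, S.cf_self]
    · intro a _ ha
      refine S.cf_eq_zero χ hn fun h' => BN.not_same_mul s.2 hn (BN.same_of_mem_cell hn hsn h' ?_)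
      have := BN.cell_mul_of_le s.2 hn h.le (S.inv_sxs_mem s (neg_ne_zero.2 ha)) (BN.self_mem_cell n)
      rw [← S.x_inv] at this
      convert this using 1
      group
    · simp
  rw [S.eq_smul_cf (S.inv_th s (S.inv_cf χ hn)) hsn hsupp, h1, one_smul]

theorem tw_tw (χ : ↥S.Tor →* k) (a b : ↥S.P.N) : S.tw (S.tw χ a) b = S.tw χ (b * a) := by
  refine MonoidHom.ext fun t => ?_
  show S.ev (S.tw χ a) ((b : G)⁻¹ * t * b) = S.ev χ (((b * a : ↥S.P.N) : G)⁻¹ * t * ((b * a : ↥S.P.N) : G))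
  rw [S.ev_tw χ a (S.conjT b.2 t.2), Subgroup.coe_mul]
  congr 1
  group

theorem tw_one (χ : ↥S.Tor →* k) : S.tw χ 1 = χ := MonoidHom.ext fun t => by
  show S.ev χ ((1 : G)⁻¹ * t * 1) = χ t
  rw [inv_one, one_mul, mul_one, S.ev_eq χ t.2]

theorem tw_triv {ψ : ↥S.Tor →* k} {s : S.P.S} (h : S.Triv ψ s) :
    S.tw ψ ⟨s, S.P.subset s.2⟩ = ψ ∧ S.tw ψ ⟨(s : G)⁻¹, inv_mem (S.P.subset s.2)⟩ = ψ := by
  refine ⟨MonoidHom.ext fun t => ?_, MonoidHom.ext fun t => ?_⟩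
  · show S.ev ψ ((s : G)⁻¹ * t * s) = ψ t
    rw [S.ev_conj_of_triv h t.2, S.ev_eq ψ t.2]
  · show S.ev ψ ((s : G)⁻¹⁻¹ * t * (s : G)⁻¹) = ψ t
    have ht : (s : G) * t * (s : G)⁻¹ ∈ S.Tor := BN.conj_mem_T (S.P.subset s.2) t.2
    rw [inv_inv, ← S.ev_conj_of_triv h ht, show (s : G)⁻¹ * ((s : G) * t * (s : G)⁻¹) * s = t by group,
      S.ev_eq ψ t.2]

theorem th_cf_desc [CharP F p] (χ : ↥S.Tor →* k) {n : G} (hn : n ∈ S.P.N) {s : S.P.S} (h : ¬ S.Asc s n) :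
    (S.Triv (S.tw χ ⟨n, hn⟩) s → S.th (S.L χ) s (S.cf χ n) = -S.cf χ n) ∧
      (¬ S.Triv (S.tw χ ⟨n, hn⟩) s → S.th (S.L χ) s (S.cf χ n) = 0) := by
  set m := (s : G)⁻¹ * n with hm
  have hsame : BN.Same S.P m ((s : G) * n) := (BN.same_inv_S s.2).mul_right hn
  have hmN : m ∈ S.P.N := mul_mem (inv_mem (S.P.subset s.2)) hn
  have hsm : (s : G) * m = n := by rw [hm, mul_inv_cancel_left]
  have hasc : S.Asc s m := by
    unfold Asc at h ⊢
    rw [hsm, BN.len_congr hsame]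
    exact lt_of_le_of_ne (not_lt.1 h) (BN.len_mul_ne s.2 hn)
  have e : S.th (S.L χ) s (S.cf χ n) = S.cc (S.tw χ ⟨m, hmN⟩) s • S.cf χ n := by
    have h1 := S.th_th (ρ := S.L χ) s (S.inv_cf χ hmN) (S.eig_cf χ ⟨m, hmN⟩)
    rwa [S.th_cf_asc χ hmN hasc, hsm] at h1
  refine ⟨fun ht => ?_, fun ht => ?_⟩
  · have e' : S.tw χ ⟨m, hmN⟩ = S.tw χ ⟨n, hn⟩ := by
      rw [← (S.tw_triv ht).2, S.tw_tw]
      rfl
    rw [e, e', S.cc_triv ht]
    exact neg_one_smul k (S.cf χ n)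
  · by_contra hne
    have h1 := S.th_th (ρ := S.L χ) s (S.inv_cf χ hn) (S.eig_cf χ ⟨n, hn⟩)
    have hc : S.cc (S.tw χ ⟨m, hmN⟩) s ≠ 0 := fun hz => hne (by rw [e, hz, zero_smul])
    rw [e, map_smul, e, smul_smul, smul_smul] at h1
    have h2 := mul_right_cancel₀ hc (smul_left_injective k (S.cf_ne_zero χ n) h1)
    exact hc (h2.trans (S.cc_eq_zero ht))

end Split

end Cfsg.Lib.Chev.Weights
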