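import Mathlib
import Cfsg.Agent.Lib.Chev.Weights.Ind
import Cfsg.Agent.Lib.Char.Basic
import Cfsg.Agent.Lib.Local.MovedBound
import Cfsg.Agent.Lib.ModFree.Frobenius

/-!
The simple modules of a group with a split `(B, N)`-pair in its characteristic are determined by their weights.
-/

set_option autoImplicit false
set_option linter.unusedSectionVars false

namespace Cfsg.Lib.Chev.Weights

open Cfsg Cfsg.Lib.Linear

universe u

variable {G : Type u} [Group G] [Finite G] {F : Type*} [Field F] [Fintype F] [DecidableEq F] {p : ℕ} [Fact p.Prime]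
  [CharP F p] (S : Split G F p) {k : Type} [Field k] [CharP k p]
variable {V : Type*} [AddCommGroup V] [Module k V] {ρ : Representation k G V}

namespace Split

theorem exists_B_split {χ : ↥S.Tor →* k} {v : V} (hv : S.Inv ρ v) (he : S.Eig ρ χ v) (f : ↥(S.Ind χ)) (g : G)
    {b : G} (hb : b ∈ S.P.B) : (f : G → k) (g * b) • ρ (g * b) v = (f : G → k) g • ρ g v := by
  obtain ⟨u, hu, t, ht, rfl⟩ := S.split b hb
  rw [f.2 g u hu t ht, map_mul, Module.End.mul_apply, map_mul, Module.End.mul_apply, he t ht, map_smul,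
    hv u hu, map_smul, smul_smul]
  congr 1
  rw [mul_right_comm, inv_mul_cancel₀ (S.ev_ne_zero χ ht), one_mul]

/-- The map from the induced functions sending the function of `B` to `v`. -/
noncomputable def phi (ρ : Representation k G V) (χ : ↥S.Tor →* k) (v : V) : ↥(S.Ind χ) →ₗ[k] V :=
  letI := Fintype.ofFinite (G ⧸ S.P.B)
  ∑ c : G ⧸ S.P.B, ((LinearMap.proj c.out).comp (S.Ind χ).subtype).smulRight (ρ c.out v)

theorem phi_apply (χ : ↥S.Tor →* k) (v : V) [Fintype (G ⧸ S.P.B)] (f : ↥(S.Ind χ)) :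
    S.phi ρ χ v f = ∑ c : G ⧸ S.P.B, (f : G → k) c.out • ρ c.out v := by
  rw [phi, LinearMap.sum_apply]
  refine Finset.sum_congr (by ext; simp) fun c _ => by simp

theorem phi_equivariant {χ : ↥S.Tor →* k} {v : V} (hv : S.Inv ρ v) (he : S.Eig ρ χ v) (g : G) (f : ↥(S.Ind χ)) :
    S.phi ρ χ v (S.L χ g f) = ρ g (S.phi ρ χ v f) := by
  classical
  haveI : Fintype (G ⧸ S.P.B) := Fintype.ofFinite _
  rw [phi_apply, phi_apply, map_sum]
  refine Fintype.sum_equiv (MulAction.toPerm g⁻¹) _ _ fun c => ?_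
  rw [map_smul, L_apply, MulAction.toPerm_apply]
  obtain ⟨b, hb⟩ := QuotientGroup.mk_out_eq_mul S.P.B (g⁻¹ * c.out)
  have e : (g⁻¹ • c).out = g⁻¹ * c.out * b := by
    rw [← hb]
    congr 1
    conv_lhs => rw [← QuotientGroup.out_eq' c]
    rfl
  have h := S.exists_B_split hv he f (g⁻¹ * c.out) b.2
  rw [← e] at h
  rw [← map_smul (ρ g), h, map_smul, ← Module.End.mul_apply, ← map_mul, mul_inv_cancel_left]

theorem phi_one {χ : ↥S.Tor →* k} {v : V} (hv : S.Inv ρ v) (he : S.Eig ρ χ v) :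
    S.phi ρ χ v (S.cf χ 1) = v := by
  classical
  haveI : Fintype (G ⧸ S.P.B) := Fintype.ofFinite _
  rw [phi_apply, Finset.sum_eq_single (QuotientGroup.mk (1 : G) : G ⧸ S.P.B)]
  · obtain ⟨b, hb⟩ := QuotientGroup.mk_out_eq_mul S.P.B (1 : G)
    rw [hb, S.exists_B_split hv he _ _ b.2, S.cf_self, one_smul, map_one, Module.End.one_apply]
  · intro c _ hc
    rw [S.cf_eq_zero χ (one_mem _) fun h => hc ?_, zero_smul]
    obtain ⟨b, hb, b', hb', e⟩ := BN.mem_cell.1 h
    rw [← QuotientGroup.out_eq' c, QuotientGroup.eq, e]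
    simp only [mul_one]
    exact inv_mem (mul_mem hb hb')
  · simp

theorem isWeight_phi {χ : ↥S.Tor →* k} {v : V} (hv : S.Inv ρ v) (he : S.Eig ρ χ v) {n : G} (hn : n ∈ S.P.N) :
    S.Inv ρ (S.phi ρ χ v (S.cf χ n)) ∧ S.Eig ρ (S.tw χ ⟨n, hn⟩) (S.phi ρ χ v (S.cf χ n)) :=
  ⟨S.inv_map _ (S.phi_equivariant hv he) (S.inv_cf χ hn), S.eig_map _ (S.phi_equivariant hv he) (S.eig_cf χ ⟨n, hn⟩)⟩

/-- A nonzero representation has a weight vector. -/
theorem exists_weight [IsAlgClosed k] [FiniteDimensional k V] [Nontrivial V] (ρ : Representation k G V) :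
    ∃ ψ : ↥S.Tor →* k, ∃ J v, S.IsWeight ρ ψ J v := by
  classical
  obtain ⟨v₀, hv₀⟩ := exists_ne (0 : V)
  obtain ⟨w, hw0, hw⟩ := Cfsg.Lib.ModFree.exists_fixed_vec p S.pU (ρ.comp S.U.subtype) hv₀
  let U0 : Submodule k V :=
    { carrier := {x | S.Inv ρ x}
      add_mem' := fun {a b} ha hb u hu => by rw [map_add, ha u hu, hb u hu]
      zero_mem' := fun u _ => map_zero _
      smul_mem' := fun c x hx u hu => by rw [map_smul, hx u hu] }
  obtain ⟨χf, v, hv, hv0, hve⟩ := Cfsg.Lib.Local.exists_common_eigenvector ρ S.Tor S.comm U0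
    (fun h => hw0 ((Submodule.eq_bot_iff _).1 h w fun u hu => hw ⟨u, hu⟩))
    (fun a ha x hx u hu => by
      rw [← Module.End.mul_apply, ← map_mul, show u * a = a * (a⁻¹ * u * a) by group, map_mul,
        Module.End.mul_apply, hx _ (S.norm_inv ha hu)])
  have hve : ∀ c ∈ S.Tor, ρ c v = χf c • v := fun c hc => Cfsg.Lib.Local.mem_eigenOf.1 hve c hc
  let χ : ↥S.Tor →* k :=
    { toFun := fun t => χf t
      map_one' := smul_left_injective k hv0 (show χf ((1 : S.Tor) : G) • v = (1 : k) • v by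
        rw [OneMemClass.coe_one, ← hve _ (one_mem _), map_one, one_smul]; rfl)
      map_mul' := fun a b => smul_left_injective k hv0 (show χf ((a * b : S.Tor) : G) • v = (χf a * χf b) • v by
        rw [Subgroup.coe_mul, ← hve _ (mul_mem a.2 b.2), map_mul, Module.End.mul_apply, hve _ b.2, map_smul,
          hve _ a.2, smul_smul, mul_comm]) }
  have he : S.Eig ρ χ v := fun t ht => by rw [hve t ht, S.ev_eq χ ht]; rfl
  haveI : Fintype G := Fintype.ofFinite G
  obtain ⟨n, hn, hmax⟩ := Finset.exists_max_image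
    ({n : G | n ∈ S.P.N ∧ S.phi ρ χ v (S.cf χ n) ≠ 0} : Finset G) (BN.len S.P)
    ⟨1, by simp [one_mem, S.phi_one hv he, hv0]⟩
  simp only [Finset.mem_filter, Finset.mem_univ, true_and] at hn hmax
  obtain ⟨hnN, hn0⟩ := hn
  obtain ⟨h1, h2⟩ := S.isWeight_phi hv he hnN
  have h3 : ∀ s, ∃ e : k, S.th ρ s (S.phi ρ χ v (S.cf χ n)) = e • S.phi ρ χ v (S.cf χ n) := by
    intro s
    rw [← S.th_map _ (S.phi_equivariant hv he)]
    by_cases ha : S.Asc s n
    · refine ⟨0, ?_⟩
      rw [S.th_cf_asc χ hnN ha, zero_smul]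
      by_contra hne
      have := hmax _ ⟨S.h_mul_mem s hnN, hne⟩
      unfold Asc at ha
      omega
    · by_cases ht : S.Triv (S.tw χ ⟨n, hnN⟩) s
      · exact ⟨-1, by rw [(S.th_cf_desc χ hnN ha).1 ht, map_neg, neg_one_smul]⟩
      · exact ⟨0, by rw [(S.th_cf_desc χ hnN ha).2 ht, map_zero, zero_smul]⟩
  obtain ⟨J, hJ⟩ := S.isWeight_of_scalar hn0 h1 h2 h3
  exact ⟨_, J, _, hJ⟩

/-- The span of `U n₀ v` contains the orbit of a weight vector. -/
theorem orbit_mem {ψ : ↥S.Tor →* k} {J : Set S.P.S} {v : V} (h : S.IsWeight ρ ψ J v) (g : G) :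
    ρ g v ∈ Submodule.span k (Set.range fun u : S.U => ρ ((u : G) * S.n0) v) := by
  classical
  set Z := Submodule.span k (Set.range fun u : S.U => ρ ((u : G) * S.n0) v)
  haveI : Fintype G := Fintype.ofFinite G
  have hU : ∀ u ∈ S.U, ∀ z ∈ Z, ρ u z ∈ Z := by
    intro u hu z hz
    induction hz using Submodule.span_induction with
    | mem x hx =>
      obtain ⟨a, rfl⟩ := hx
      refine Submodule.subset_span ⟨⟨u * a, mul_mem hu a.2⟩, ?_⟩
      show ρ (u * a * S.n0) v = _
      rw [mul_assoc, map_mul, Module.End.mul_apply]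
    | zero => rw [map_zero]; exact Z.zero_mem
    | add a b _ _ ha hb => rw [map_add]; exact Z.add_mem ha hb
    | smul c a _ ha => rw [map_smul]; exact Z.smul_mem c ha
  obtain ⟨M, hM⟩ : ∃ M, ∀ g, BN.len S.P g ≤ M :=
    ⟨Finset.univ.sup (BN.len S.P), fun g => Finset.le_sup (Finset.mem_univ g)⟩
  have hN : ∀ d, ∀ m ∈ S.P.N, M - BN.len S.P m ≤ d → ρ m⁻¹ v ∈ Z := by
    intro d
    induction d using Nat.strong_induction_on with
    | _ d ih =>
      intro m hm hd
      by_cases hex : ∃ s, S.Asc s m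
      · obtain ⟨s, hs⟩ := hex
        have hpos := S.pos_of_asc hm hs
        have hsame : BN.Same S.P ((s : G)⁻¹ * m) ((s : G) * m) := (BN.same_inv_S s.2).mul_right hm
        have hlt : BN.len S.P m < BN.len S.P ((s : G)⁻¹ * m) := by rw [BN.len_congr hsame]; exact hs
        have hb := hM ((s : G)⁻¹ * m)
        have hnext : ρ ((s : G)⁻¹ * m)⁻¹ v ∈ Z :=
          ih (M - BN.len S.P ((s : G)⁻¹ * m)) (by omega) _ (mul_mem (inv_mem (S.P.subset s.2)) hm) le_rfl
        have key : Submodule.span k (Set.range fun a : F => ρ (S.x s a * s) v) ≤ Z.comap (ρ m⁻¹) := by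
          refine Submodule.span_le.2 ?_
          rintro _ ⟨a, rfl⟩
          show ρ m⁻¹ (ρ (S.x s a * s) v) ∈ Z
          rw [← Module.End.mul_apply, ← map_mul,
            show m⁻¹ * (S.x s a * s) = (m⁻¹ * S.x s a * m) * ((s : G)⁻¹ * m)⁻¹ by group, map_mul,
            Module.End.mul_apply]
          exact hU _ (hpos a) _ hnext
        exact key (S.mem_span_root h s)
      · push Not at hex
        have hmn : m * S.n0 ∈ S.Tor := by
          by_contra hc
          obtain ⟨s, hs⟩ := S.exists_desc (mul_mem hm S.n0_mem) hc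
          exact hs ((S.asc_n0_iff hm).2 (hex s))
        rw [show m⁻¹ = S.n0 * (m * S.n0)⁻¹ by group, map_mul, Module.End.mul_apply, h.2.2.1 _ (inv_mem hmn),
          map_smul]
        exact Z.smul_mem _ (Submodule.subset_span ⟨1, by simp⟩)
  obtain ⟨n, hn, hg⟩ := BN.bruhat (P := S.P) g
  obtain ⟨t, ht, u, hu, u', hu', rfl⟩ := S.exists_inCell hn hg
  rw [map_mul, Module.End.mul_apply, h.2.1 _ hu', mul_assoc, map_mul, Module.End.mul_apply]
  refine hU _ hu _ ?_
  have := hN _ (n * t)⁻¹ (inv_mem (mul_mem hn ht.2)) le_rfl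
  rwa [inv_inv] at this

/-- Invariant functionals agreeing at `n₀ v` agree on the orbit. -/
theorem functional_eq {W : Type*} [AddCommGroup W] [Module k W] {ψ : ↥S.Tor →* k} {J : Set S.P.S} {v : V}
    (h : S.IsWeight ρ ψ J v) (f : V →ₗ[k] W) (hf : ∀ u ∈ S.U, ∀ x, f (ρ u x) = f x) (h0 : f (ρ S.n0 v) = 0) (g : G) :
    f (ρ g v) = 0 := by
  have : Submodule.span k (Set.range fun u : S.U => ρ ((u : G) * S.n0) v) ≤ LinearMap.ker f := by
    refine Submodule.span_le.2 ?_
    rintro _ ⟨u, rfl⟩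
    show f (ρ ((u : G) * S.n0) v) = 0
    rw [map_mul, Module.End.mul_apply, hf _ u.2, h0]
  exact this (S.orbit_mem h g)

end Split

/-- The orbit of a nonzero vector spans an irreducible representation. -/
theorem span_orbit (hirr : ρ.IsIrreducible) {v : V} (hv : v ≠ 0) :
    Submodule.span k (Set.range fun g => ρ g v) = ⊤ := by
  refine (((Cfsg.Lib.Char.isIrreducible_iff_submodule ρ).1 hirr).2 _ fun g x hx => ?_).resolve_left ?_
  · induction hx using Submodule.span_induction with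
    | mem x hx =>
      obtain ⟨a, rfl⟩ := hx
      exact Submodule.subset_span ⟨g * a, by simp [map_mul]⟩
    | zero => rw [map_zero]; exact zero_mem _
    | add a b _ _ ha hb => rw [map_add]; exact add_mem ha hb
    | smul c a _ ha => rw [map_smul]; exact Submodule.smul_mem _ c ha
  · intro h
    exact hv ((Submodule.eq_bot_iff _).1 h v (Submodule.subset_span ⟨1, by simp⟩))

theorem isIrreducible_dual [FiniteDimensional k V] (hirr : ρ.IsIrreducible) : ρ.dual.IsIrreducible := by
  obtain ⟨hnt, hsub⟩ := (Cfsg.Lib.Char.isIrreducible_iff_submodule ρ).1 hirr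
  refine (Cfsg.Lib.Char.isIrreducible_iff_submodule ρ.dual).2 ⟨?_, fun P hP => ?_⟩
  · obtain ⟨v, hv⟩ := exists_ne (0 : V)
    obtain ⟨f, hf⟩ : ∃ f : Module.Dual k V, f v ≠ 0 := by
      by_contra hc
      push Not at hc
      exact hv ((Module.forall_dual_apply_eq_zero_iff k v).1 hc)
    exact ⟨⟨f, 0, fun h => hf (by rw [h]; rfl)⟩⟩
  · rcases hsub P.dualCoannihilator (fun g x hx => by
      rw [Submodule.mem_dualCoannihilator] at hx ⊢
      intro f hf
      have := hx _ (hP g⁻¹ f hf)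
      simpa [Representation.dual_apply, Module.Dual.transpose_apply] using this) with h | h
    · right
      rw [← Subspace.dualCoannihilator_dualAnnihilator_eq (W := P), h, Submodule.dualAnnihilator_bot]
    · left
      rw [← Subspace.dualCoannihilator_dualAnnihilator_eq (W := P), h, Submodule.dualAnnihilator_top]

variable [IsAlgClosed k] [FiniteDimensional k V]

namespace Split

theorem exists_invariant_functional (hirr : ρ.IsIrreducible) :
    ∃ f : Module.Dual k V, f ≠ 0 ∧ ∀ u ∈ S.U, ∀ x, f (ρ u x) = f x := by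
  obtain ⟨hnt, -⟩ := (Cfsg.Lib.Char.isIrreducible_iff_submodule ρ.dual).1 (isIrreducible_dual hirr)
  obtain ⟨f₀, hf₀⟩ := exists_ne (0 : Module.Dual k V)
  obtain ⟨f, hf, hfu⟩ := Cfsg.Lib.ModFree.exists_fixed_vec p S.pU (ρ.dual.comp S.U.subtype) hf₀
  refine ⟨f, hf, fun u hu x => ?_⟩
  have := LinearMap.congr_fun (hfu ⟨u⁻¹, inv_mem hu⟩) x
  simpa [Representation.dual_apply, Module.Dual.transpose_apply] using this

/-- The vectors fixed by `U` are proportional. -/
theorem inv_smul (hirr : ρ.IsIrreducible) {v v' : V} (hv : S.Inv ρ v) (hv0 : v ≠ 0) (hv' : S.Inv ρ v') :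
    ∃ c : k, v' = c • v := by
  have hd := isIrreducible_dual hirr
  haveI : Nontrivial (Module.Dual k V) := ((Cfsg.Lib.Char.isIrreducible_iff_submodule ρ.dual).1 hd).1
  obtain ⟨ψ, J, w, hw⟩ := S.exists_weight ρ.dual
  let evv : V → (Module.Dual k V →ₗ[k] k) := fun x => Module.Dual.eval k V x
  have hev : ∀ x, S.Inv ρ x → ∀ u ∈ S.U, ∀ y, evv x (ρ.dual u y) = evv x y := fun x hx u hu y => by
    show (ρ.dual u y) x = y x
    rw [Representation.dual_apply, Module.Dual.transpose_apply, LinearMap.comp_apply, hx _ (inv_mem hu)]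
  have key : ∀ x, S.Inv ρ x → evv x (ρ.dual S.n0 w) = 0 → x = 0 := by
    intro x hx h0
    refine (Module.forall_dual_apply_eq_zero_iff k x).1 fun y => ?_
    have hy : y ∈ Submodule.span k (Set.range fun g => ρ.dual g w) := (span_orbit hd hw.1).symm ▸ Submodule.mem_top
    have hle : Submodule.span k (Set.range fun g => ρ.dual g w) ≤ LinearMap.ker (evv x) := by
      refine Submodule.span_le.2 ?_
      rintro _ ⟨g, rfl⟩
      exact S.functional_eq hw (evv x) (hev x hx) h0 g
    exact hle hy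
  set z := ρ.dual S.n0 w
  have h1 : evv v z ≠ 0 := fun h => hv0 (key v hv h)
  refine ⟨evv v' z / evv v z, ?_⟩
  have h2 : S.Inv ρ (v' - (evv v' z / evv v z) • v) := fun u hu => by rw [map_sub, map_smul, hv u hu, hv' u hu]
  refine sub_eq_zero.1 (key _ h2 ?_)
  simp only [evv, map_sub, map_smul, LinearMap.sub_apply, LinearMap.smul_apply, smul_eq_mul] at h1 ⊢
  field_simp
  ring

/-- A simple module has one weight. -/
theorem weight_unique (hirr : ρ.IsIrreducible) {ψ ψ' : ↥S.Tor →* k} {J J' : Set S.P.S} {v v' : V}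
    (h : S.IsWeight ρ ψ J v) (h' : S.IsWeight ρ ψ' J' v') : ψ = ψ' ∧ J = J' := by
  obtain ⟨hv0, hv, he, -, hJ⟩ := h
  obtain ⟨hv0', hv', he', -, hJ'⟩ := h'
  obtain ⟨c, rfl⟩ := S.inv_smul hirr hv hv0 hv'
  have hc : c ≠ 0 := fun h => hv0' (by rw [h, zero_smul])
  refine ⟨MonoidHom.ext fun t => smul_left_injective k hv0 ?_, Set.ext fun s => ⟨fun hs => ?_, fun hs => ?_⟩⟩
  · have h1 := he' t t.2
    rw [map_smul, he t t.2, S.ev_eq ψ t.2, S.ev_eq ψ' t.2, smul_comm] at h1
    exact smul_right_injective V hc (by simpa [smul_comm c] using h1)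
  · by_contra hs'
    have h1 := (hJ' s).2 hs'
    rw [map_smul, (hJ s).1 hs, smul_neg, neg_eq_zero] at h1
    exact hv0' h1
  · by_contra hs'
    have h1 := (hJ' s).1 hs
    rw [map_smul, (hJ s).2 hs', smul_zero] at h1
    exact hv0' (neg_eq_zero.1 h1.symm)

/-- Simple modules with the same weight are isomorphic. -/
theorem equiv_of_weight {W : Type*} [AddCommGroup W] [Module k W] [FiniteDimensional k W] {σ : Representation k G W}
    (hρ : ρ.IsIrreducible) (hσ : σ.IsIrreducible) {ψ : ↥S.Tor →* k} {J : Set S.P.S} {v : V} {w : W}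
    (h : S.IsWeight ρ ψ J v) (h' : S.IsWeight σ ψ J w) : Nonempty (ρ.Equiv σ) := by
  let τ : Representation k G (V × W) :=
    { toFun := fun g => (ρ g).prodMap (σ g)
      map_one' := LinearMap.ext fun x => by simp
      map_mul' := fun a b => LinearMap.ext fun x => by simp [map_mul] }
  have hτ : ∀ g x, τ g x = (ρ g x.1, σ g x.2) := fun g x => rfl
  have hy : S.IsWeight τ ψ J (v, w) := by
    refine ⟨fun hz => h.1 (congrArg Prod.fst hz), fun u hu => ?_, fun t ht => ?_, h.2.2.2.1,
      fun s => ⟨fun hs => ?_, fun hs => ?_⟩⟩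
    · rw [hτ, h.2.1 u hu, h'.2.1 u hu]
    · rw [hτ, h.2.2.1 t ht, h'.2.2.1 t ht]; rfl
    all_goals
      refine Prod.ext ?_ ?_
      · have := S.th_map (ρ := τ) (σ := ρ) (LinearMap.fst k V W) (fun g x => rfl) s (v, w)
        simp only [LinearMap.fst_apply] at this
        rw [this]
        first
          | exact (h.2.2.2.2 s).1 hs
          | exact (h.2.2.2.2 s).2 hs
      · have := S.th_map (ρ := τ) (σ := σ) (LinearMap.snd k V W) (fun g x => rfl) s (v, w)
        simp only [LinearMap.snd_apply] at this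
        rw [this]
        first
          | exact (h'.2.2.2.2 s).1 hs
          | exact (h'.2.2.2.2 s).2 hs
  set Y := Submodule.span k (Set.range fun g => τ g (v, w)) with hY
  have hinv : ∀ g, ∀ x ∈ Y, τ g x ∈ Y := by
    intro g x hx
    induction hx using Submodule.span_induction with
    | mem x hx =>
      obtain ⟨a, rfl⟩ := hx
      exact Submodule.subset_span ⟨g * a, by simp [map_mul]⟩
    | zero => rw [map_zero]; exact zero_mem _
    | add a b _ _ ha hb => rw [map_add]; exact add_mem ha hb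
    | smul c a _ ha => rw [map_smul]; exact Submodule.smul_mem _ c ha
  have hfst : Y.map (LinearMap.fst k V W) = ⊤ := by
    rw [hY, Submodule.map_span, ← Set.range_comp]
    exact span_orbit hρ h.1
  have hsnd : Y.map (LinearMap.snd k V W) = ⊤ := by
    rw [hY, Submodule.map_span, ← Set.range_comp]
    exact span_orbit hσ h'.1
  have hne : Y ≠ ⊤ := by
    intro htop
    obtain ⟨f, hf0, hf⟩ := S.exists_invariant_functional hρ
    obtain ⟨g, hg0, hg⟩ := S.exists_invariant_functional hσ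
    have hgw : g (σ S.n0 w) ≠ 0 := by
      intro h0
      refine hg0 (LinearMap.ext fun x => ?_)
      have hle : Submodule.span k (Set.range fun a => σ a w) ≤ LinearMap.ker g :=
        Submodule.span_le.2 (by rintro _ ⟨a, rfl⟩; exact S.functional_eq h' g hg h0 a)
      exact hle ((span_orbit hσ h'.1).symm ▸ Submodule.mem_top)
    let φ : V × W →ₗ[k] k :=
      g (σ S.n0 w) • (f.comp (LinearMap.fst k V W)) - f (ρ S.n0 v) • (g.comp (LinearMap.snd k V W))
    have hle : Y ≤ LinearMap.ker φ := Submodule.span_le.2 (by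
      rintro _ ⟨a, rfl⟩
      refine S.functional_eq hy φ (fun u hu x => ?_) ?_ a
      · simp [φ, hτ, hf u hu, hg u hu]
      · simp [φ, hτ, mul_comm])
    refine hf0 (LinearMap.ext fun x => ?_)
    have := hle (htop ▸ Submodule.mem_top : (x, (0 : W)) ∈ Y)
    simpa [φ, hgw] using this
  obtain ⟨-, hsubV⟩ := (Cfsg.Lib.Char.isIrreducible_iff_submodule ρ).1 hρ
  obtain ⟨-, hsubW⟩ := (Cfsg.Lib.Char.isIrreducible_iff_submodule σ).1 hσ
  have hi2 : Y.comap (LinearMap.inr k V W) = ⊥ := by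
    refine (hsubW _ fun g x hx => ?_).resolve_right fun htop => hne (eq_top_iff.2 fun x _ => ?_)
    · have := hinv g _ hx
      simpa [hτ] using this
    · obtain ⟨y, hy', e⟩ := (hfst.symm ▸ Submodule.mem_top : x.1 ∈ Y.map (LinearMap.fst k V W))
      have h0 : (0, x.2 - y.2) ∈ Y := (htop ▸ Submodule.mem_top : x.2 - y.2 ∈ Y.comap (LinearMap.inr k V W))
      have := Y.add_mem hy' h0
      convert this using 1
      exact Prod.ext (by simp [← e]) (by simp)
  have hi1 : Y.comap (LinearMap.inl k V W) = ⊥ := by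
    refine (hsubV _ fun g x hx => ?_).resolve_right fun htop => hne (eq_top_iff.2 fun x _ => ?_)
    · have := hinv g _ hx
      simpa [hτ] using this
    · obtain ⟨y, hy', e⟩ := (hsnd.symm ▸ Submodule.mem_top : x.2 ∈ Y.map (LinearMap.snd k V W))
      have h0 : (x.1 - y.1, 0) ∈ Y := (htop ▸ Submodule.mem_top : x.1 - y.1 ∈ Y.comap (LinearMap.inl k V W))
      have := Y.add_mem hy' h0
      convert this using 1
      exact Prod.ext (by simp) (by simp [← e])
  let p1 : Y →ₗ[k] V := (LinearMap.fst k V W).comp Y.subtype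
  let p2 : Y →ₗ[k] W := (LinearMap.snd k V W).comp Y.subtype
  have b1 : Function.Bijective p1 := by
    refine ⟨(injective_iff_map_eq_zero p1).2 fun y hy0 => ?_, fun x => ?_⟩
    · obtain ⟨⟨a, b⟩, hab⟩ := y
      have ha : a = 0 := hy0
      subst ha
      have hb : b ∈ (⊥ : Submodule k W) := hi2 ▸ hab
      rw [Submodule.mem_bot] at hb
      subst hb
      rfl
    · obtain ⟨y, hy', e⟩ := (hfst.symm ▸ Submodule.mem_top : x ∈ Y.map (LinearMap.fst k V W))
      exact ⟨⟨y, hy'⟩, e⟩
  have b2 : Function.Bijective p2 := by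
    refine ⟨(injective_iff_map_eq_zero p2).2 fun y hy0 => ?_, fun x => ?_⟩
    · obtain ⟨⟨a, b⟩, hab⟩ := y
      have hb : b = 0 := hy0
      subst hb
      have ha : a ∈ (⊥ : Submodule k V) := hi1 ▸ hab
      rw [Submodule.mem_bot] at ha
      subst ha
      rfl
    · obtain ⟨y, hy', e⟩ := (hsnd.symm ▸ Submodule.mem_top : x ∈ Y.map (LinearMap.snd k V W))
      exact ⟨⟨y, hy'⟩, e⟩
  let e1 := LinearEquiv.ofBijective p1 b1
  let e2 := LinearEquiv.ofBijective p2 b2
  refine ⟨Representation.Equiv.mk (e1.symm.trans e2) fun g => LinearMap.ext fun x => ?_⟩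
  obtain ⟨y, rfl⟩ := e1.surjective x
  have e : ρ g (e1 y) = e1 ⟨τ g y, hinv g _ y.2⟩ := rfl
  simp only [LinearMap.comp_apply, LinearEquiv.coe_coe, LinearEquiv.trans_apply, e,
    LinearEquiv.symm_apply_apply]
  rfl

end Split

end Cfsg.Lib.Chev.Weights
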