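import Mathlib
import Cfsg.Agent.Lib.Chev.Weights.Simple
import Cfsg.Agent.Lib.Block.CyclicWitness

/-!
Every weight is the weight of a simple module.
-/

set_option autoImplicit false
set_option linter.unusedSectionVars false

namespace Cfsg.Lib.Chev.Weights

open Cfsg Cfsg.Lib.Linear

universe u

variable {G : Type u} [Group G] [Finite G] {F : Type*} [Field F] [Fintype F] [DecidableEq F] {p : ℕ} [Fact p.Prime]
  [CharP F p] (S : Split G F p) {k : Type} [Field k] [CharP k p]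

namespace Split

section par

variable (K : Set S.P.S)

/-- The group generated by the torus and the generators in `K`. -/
def NK : Subgroup G := Subgroup.closure ((fun s : S.P.S => (s : G)) '' K) ⊔ S.Tor

theorem NK_le : S.NK K ≤ S.P.N :=
  sup_le ((Subgroup.closure_le _).2 (by rintro _ ⟨s, -, rfl⟩; exact S.P.subset s.2)) inf_le_right

theorem tor_le_NK : S.Tor ≤ S.NK K := le_sup_right

theorem gen_mem_NK {s : S.P.S} (hs : s ∈ K) : (s : G) ∈ S.NK K :=
  Subgroup.mem_sup_left (Subgroup.subset_closure ⟨s, hs, rfl⟩)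

theorem asc_of_not_mem {s : S.P.S} (hs : s ∉ K) {n : G} (hn : n ∈ S.NK K) : S.Asc s n := by
  by_contra hc
  have hnN := S.NK_le K hn
  have hsn := S.h_mul_mem s hnN
  have hlt : BN.len S.P ((s : G) * n) < BN.len S.P n := lt_of_le_of_ne (not_lt.1 hc) (BN.len_mul_ne s.2 hnN)
  obtain ⟨l, hl, hlS, hsame⟩ := BN.exists_reduced hsn
  have hS' : ∀ r ∈ (s : G) :: l, r ∈ S.P.S := fun r hr => by
    rcases List.mem_cons.1 hr with rfl | hr
    exacts [s.2, hlS r hr]
  have hsame' : BN.Same S.P ((s : G) :: l).prod n := by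
    rw [List.prod_cons]
    exact (hsame.mul_left (s : G)).trans (BN.same_sq_mul s.2 hnN).symm
  have hred : BN.len S.P ((s : G) :: l).prod = ((s : G) :: l).length := by
    have h1 := BN.len_congr hsame'
    have h2 := BN.len_le hS' hsame'
    have h3 := BN.len_mul_le s.2 hsn
    rw [S.len_sq s hnN] at h3
    rw [h1]
    simp only [List.length_cons] at h2 ⊢
    omega
  set J : Set G := (fun s : S.P.S => (s : G)) '' K
  have hJ : J ⊆ S.P.S := by rintro _ ⟨r, -, rfl⟩; exact r.2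
  have hM : n ∈ S.P.parabolic J :=
    (sup_le (BN.closure_le_parabolic J) (inf_le_left.trans (BN.B_le_parabolic J))) hn
  have hmem := BN.letters_mem _ hS' hred n hsame' (S.P.parabolic J) (BN.B_le_parabolic J)
    (fun b hb => mul_mem (mul_mem hM (BN.B_le_parabolic J hb)) (inv_mem hM)) (s : G) (List.mem_cons_self ..)
  have : (s : G) ∈ J := by
    rw [← BN.S_inter_parabolic hJ]
    exact ⟨s.2, hmem⟩
  obtain ⟨r, hr, e⟩ := this
  exact hs (Subtype.ext e ▸ hr)

end par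

variable {K : Set S.P.S} {χ : ↥S.Tor →* k} (hK : ∀ s ∈ K, S.Triv (S.tw χ ⟨S.n0, S.n0_mem⟩) s)

include hK

theorem tw_NK {n : G} (hn : n ∈ S.NK K) :
    S.tw (S.tw χ ⟨S.n0, S.n0_mem⟩) ⟨n, S.NK_le K hn⟩ = S.tw χ ⟨S.n0, S.n0_mem⟩ := by
  set ψ := S.tw χ ⟨S.n0, S.n0_mem⟩ with hψ
  let H : Subgroup G :=
    { carrier := {g | ∃ h : g ∈ S.P.N, S.tw ψ ⟨g, h⟩ = ψ}
      one_mem' := ⟨one_mem _, S.tw_one ψ⟩
      mul_mem' := by
        rintro a b ⟨ha, ea⟩ ⟨hb, eb⟩
        refine ⟨mul_mem ha hb, ?_⟩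
        have := S.tw_tw ψ ⟨b, hb⟩ ⟨a, ha⟩
        rw [eb, ea] at this
        exact this.symm
      inv_mem' := by
        rintro a ⟨ha, ea⟩
        refine ⟨inv_mem ha, ?_⟩
        have := S.tw_tw ψ ⟨a, ha⟩ ⟨a⁻¹, inv_mem ha⟩
        rw [ea, show (⟨a⁻¹, inv_mem ha⟩ * ⟨a, ha⟩ : ↥S.P.N) = 1 from Subtype.ext (inv_mul_cancel a), S.tw_one] at this
        exact this }
  have hle : S.NK K ≤ H := by
    refine sup_le ((Subgroup.closure_le _).2 ?_) fun t ht => ?_
    · rintro _ ⟨s, hs, rfl⟩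
      exact ⟨S.P.subset s.2, (S.tw_triv (hK s hs)).1⟩
    · refine ⟨ht.2, MonoidHom.ext fun x => ?_⟩
      show S.ev ψ (t⁻¹ * x * t) = ψ x
      rw [mul_assoc, S.comm _ x.2 _ ht, inv_mul_cancel_left, S.ev_eq ψ x.2]
  exact (hle hn).2

theorem tw_NK' {n : G} (hn : n ∈ S.NK K) :
    S.tw χ ⟨n * S.n0, mul_mem (S.NK_le K hn) S.n0_mem⟩ = S.tw χ ⟨S.n0, S.n0_mem⟩ := by
  rw [← S.tw_NK hK hn, S.tw_tw]
  rfl

/-- The scalar by which the cell of `n` acts on the function of the longest cell. -/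
noncomputable def sc (χ : ↥S.Tor →* k) (n : G) : k :=
  ((S.phi (S.L χ) (S.tw χ ⟨S.n0, S.n0_mem⟩) (S.cf χ S.n0) (S.cf (S.tw χ ⟨S.n0, S.n0_mem⟩) n) :
    ↥(S.Ind χ)) : G → k) S.n0

omit hK in
theorem th_cf_n0 (χ : ↥S.Tor →* k) (s : S.P.S) :
    (S.Triv (S.tw χ ⟨S.n0, S.n0_mem⟩) s → S.th (S.L χ) s (S.cf χ S.n0) = -S.cf χ S.n0) ∧
      (¬ S.Triv (S.tw χ ⟨S.n0, S.n0_mem⟩) s → S.th (S.L χ) s (S.cf χ S.n0) = 0) := by
  refine S.th_cf_desc χ S.n0_mem fun h => ?_
  have h1 : S.Asc s 1 := S.asc_of_pos (one_mem _) fun a => by simpa using S.x_mem s a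
  exact ((S.asc_n0_iff (one_mem _)).1 (by rwa [one_mul])) h1

theorem sc_spec : ∀ d, ∀ n ∈ S.NK K, BN.len S.P n = d →
    S.sc χ n ≠ 0 ∧ S.phi (S.L χ) (S.tw χ ⟨S.n0, S.n0_mem⟩) (S.cf χ S.n0) (S.cf (S.tw χ ⟨S.n0, S.n0_mem⟩) n) =
      S.sc χ n • S.cf χ S.n0 := by
  set ψ := S.tw χ ⟨S.n0, S.n0_mem⟩ with hψ
  have hv := S.inv_cf χ S.n0_mem
  have he := S.eig_cf χ ⟨S.n0, S.n0_mem⟩
  intro d
  induction d using Nat.strong_induction_on with
  | _ d ih =>
    intro n hn hd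
    suffices h : ∃ c : k, c ≠ 0 ∧ S.phi (S.L χ) ψ (S.cf χ S.n0) (S.cf ψ n) = c • S.cf χ S.n0 by
      obtain ⟨c, hc, e⟩ := h
      have : S.sc χ n = c := by
        rw [sc, ← hψ, e, SetLike.val_smul, Pi.smul_apply, S.cf_self, smul_eq_mul, mul_one]
      rw [this]
      exact ⟨hc, e⟩
    by_cases hT : n ∈ S.Tor
    · refine ⟨S.ev ψ n, S.ev_ne_zero ψ hT, ?_⟩
      rw [show n = 1 * n from (one_mul n).symm, S.cf_mul_tor ψ (one_mem _) hT, map_smul, S.phi_one hv he, one_mul]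
    · obtain ⟨s, hs⟩ := S.exists_desc (S.NK_le K hn) hT
      have hsK : s ∈ K := by
        by_contra h
        exact hs (S.asc_of_not_mem K h hn)
      set m := (s : G)⁻¹ * n with hm
      have hsame : BN.Same S.P m ((s : G) * n) := (BN.same_inv_S s.2).mul_right (S.NK_le K hn)
      have hmK : m ∈ S.NK K := mul_mem (inv_mem (S.gen_mem_NK K hsK)) hn
      have hsm : (s : G) * m = n := by rw [hm, mul_inv_cancel_left]
      have hlt : BN.len S.P m < BN.len S.P n := by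
        rw [BN.len_congr hsame]
        exact lt_of_le_of_ne (not_lt.1 hs) (BN.len_mul_ne s.2 (S.NK_le K hn))
      have hasc : S.Asc s m := by rw [Asc, hsm]; exact hlt
      obtain ⟨hc, e⟩ := ih (BN.len S.P m) (by omega) m hmK rfl
      refine ⟨-S.sc χ m, neg_ne_zero.2 hc, ?_⟩
      rw [← hsm, ← S.th_cf_asc ψ (S.NK_le K hmK) hasc, S.th_map _ (S.phi_equivariant hv he), e, map_smul,
        (S.th_cf_n0 χ s).1 (hK s hsK), smul_neg]
      exact (neg_smul (S.sc χ m) (S.cf χ S.n0)).symm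

theorem sc_step {n : G} (hn : n ∈ S.NK K) {s : S.P.S} (hs : s ∈ K) (h : S.Asc s n) :
    S.sc χ ((s : G) * n) = -S.sc χ n := by
  have hv := S.inv_cf χ S.n0_mem
  have he := S.eig_cf χ ⟨S.n0, S.n0_mem⟩
  conv_lhs => rw [sc, ← S.th_cf_asc _ (S.NK_le K hn) h, S.th_map _ (S.phi_equivariant hv he),
    (S.sc_spec hK _ n hn rfl).2, map_smul, (S.th_cf_n0 χ s).1 (hK s hs), smul_neg]
  simp [S.cf_self]

/-- The term of `n`. -/
noncomputable def term (χ : ↥S.Tor →* k) (n : G) : ↥(S.Ind χ) :=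
  ((-1 : k) ^ BN.len S.P n * (S.sc χ n)⁻¹) • S.cf χ (n * S.n0)

theorem term_tor {n t : G} (hn : n ∈ S.NK K) (ht : t ∈ S.Tor) : S.term χ (n * t) = S.term χ n := by
  have hnN := S.NK_le K hn
  have hlen : BN.len S.P (n * t) = BN.len S.P n := (BN.len_congr (BN.same_mul_T ht)).symm
  have hsc : S.sc χ (n * t) = S.ev (S.tw χ ⟨S.n0, S.n0_mem⟩) t * S.sc χ n := by
    rw [sc, sc, S.cf_mul_tor _ hnN ht, map_smul, SetLike.val_smul, Pi.smul_apply, smul_eq_mul]
  rw [term, term, hlen, hsc, show n * t * S.n0 = (n * S.n0) * (S.n0⁻¹ * t * S.n0) by group,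
    S.cf_mul_tor χ (mul_mem hnN S.n0_mem) (S.conjT S.n0_mem ht), S.ev_tw χ _ ht, smul_smul]
  congr 1
  have := S.ev_ne_zero χ (S.conjT S.n0_mem ht)
  field_simp

theorem th_term {n : G} (hn : n ∈ S.NK K) {s : S.P.S} (h : S.Asc s n) :
    (S.Triv (S.tw χ ⟨S.n0, S.n0_mem⟩) s → S.th (S.L χ) s (S.term χ n) = -S.term χ n) ∧
      (¬ S.Triv (S.tw χ ⟨S.n0, S.n0_mem⟩) s → S.th (S.L χ) s (S.term χ n) = 0) := by
  have hnN := S.NK_le K hn
  have hd : ¬ S.Asc s (n * S.n0) := fun h' => (S.asc_n0_iff hnN).1 h' h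
  have := S.th_cf_desc χ (mul_mem hnN S.n0_mem) hd
  rw [S.tw_NK' hK hn] at this
  exact ⟨fun ht => by rw [term, map_smul, this.1 ht, smul_neg], fun ht => by rw [term, map_smul, this.2 ht, smul_zero]⟩

theorem th_term_desc {n : G} (hn : n ∈ S.NK K) {s : S.P.S} (hs : s ∈ K) (h : S.Asc s n) :
    S.th (S.L χ) s (S.term χ ((s : G) * n)) = S.term χ n := by
  have hnN := S.NK_le K hn
  have hsn := S.h_mul_mem s hnN
  have h2 : ¬ S.Asc s ((s : G) * n) := by
    unfold Asc at h ⊢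
    rw [S.len_sq s hnN]
    omega
  have h3 : S.Asc s ((s : G) * n * S.n0) := (S.asc_n0_iff hsn).2 h2
  have hlen : BN.len S.P ((s : G) * n) = BN.len S.P n + 1 := by
    have := BN.len_mul_le s.2 hnN
    unfold Asc at h
    omega
  rw [term, map_smul, S.th_cf_asc χ (mul_mem hsn S.n0_mem) h3, hlen, S.sc_step hK hn hs h,
    show (s : G) * ((s : G) * n * S.n0) = (n * S.n0) * ((n * S.n0)⁻¹ * S.h s (-1) * (n * S.n0)) by
      rw [← S.sq]; group,
    S.cf_mul_tor χ (mul_mem hnN S.n0_mem) (S.conjT (mul_mem hnN S.n0_mem) (S.h_mem s _)), smul_smul, term]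
  congr 1
  have e : S.ev χ ((n * S.n0)⁻¹ * S.h s (-1) * (n * S.n0)) = 1 := by
    rw [← S.ev_tw χ ⟨_, mul_mem hnN S.n0_mem⟩ (S.h_mem s _), S.tw_NK' hK hn, hK s hs]
  rw [e, pow_succ, inv_neg]
  ring

/-- A weight vector with prescribed weight among the induced functions. -/
theorem exists_weight_ind :
    ∃ f : ↥(S.Ind χ), S.IsWeight (S.L χ) (S.tw χ ⟨S.n0, S.n0_mem⟩)
      {s | S.Triv (S.tw χ ⟨S.n0, S.n0_mem⟩) s ∧ s ∉ K} f := by
  classical
  set ψ := S.tw χ ⟨S.n0, S.n0_mem⟩ with hψ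
  set T' := S.Tor.subgroupOf (S.NK K)
  haveI : Fintype (↥(S.NK K) ⧸ T') := Fintype.ofFinite _
  let tm : ↥(S.NK K) ⧸ T' → ↥(S.Ind χ) := fun c => S.term χ ((c.out : ↥(S.NK K)) : G)
  have htm : ∀ n : ↥(S.NK K), tm (QuotientGroup.mk n) = S.term χ (n : G) := by
    intro n
    obtain ⟨t, ht⟩ := QuotientGroup.mk_out_eq_mul T' n
    show S.term χ _ = _
    rw [ht, Subgroup.coe_mul]
    exact S.term_tor hK n.2 t.2
  refine ⟨∑ c, tm c, ?_, ?_, ?_, fun s hs => hs.1, fun s => ?_⟩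
  · intro h0
    have h1 := congrArg (fun f : ↥(S.Ind χ) => (f : G → k) S.n0) h0
    simp only [AddSubmonoidClass.coe_finset_sum, Finset.sum_apply, ZeroMemClass.coe_zero, Pi.zero_apply] at h1
    rw [Finset.sum_eq_single (QuotientGroup.mk (1 : ↥(S.NK K)))] at h1
    · rw [htm] at h1
      have hsc : S.sc χ 1 = 1 := by
        rw [sc, S.phi_one (S.inv_cf χ S.n0_mem) (S.eig_cf χ ⟨S.n0, S.n0_mem⟩), S.cf_self]
      simp only [term, OneMemClass.coe_one, BN.len_one, pow_zero, hsc, inv_one, mul_one, one_mul, one_smul,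
        S.cf_self] at h1
      exact one_ne_zero h1
    · intro c _ hc
      show ((S.term χ _ : ↥(S.Ind χ)) : G → k) S.n0 = 0
      rw [term, SetLike.val_smul, Pi.smul_apply, S.cf_eq_zero χ (mul_mem (S.NK_le K c.out.2) S.n0_mem)
        (fun h => hc ?_), smul_zero]
      have hsame := BN.same_of_mem_cell (mul_mem (S.NK_le K c.out.2) S.n0_mem) S.n0_mem h (BN.self_mem_cell _)
      rw [← QuotientGroup.out_eq' c, QuotientGroup.eq]
      show ((c.out : ↥(S.NK K)) : G)⁻¹ * 1 ∈ S.Tor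
      have := BN.conj_mem_T S.n0_mem hsame
      rw [mul_one]
      convert this using 1
      group
    · simp
  · intro u hu
    rw [map_sum]
    exact Finset.sum_congr rfl fun c _ => by
      show S.L χ u (S.term χ _) = S.term χ _
      rw [term, map_smul, S.inv_cf χ (mul_mem (S.NK_le K c.out.2) S.n0_mem) u hu]
  · intro t ht
    rw [map_sum, Finset.smul_sum]
    refine Finset.sum_congr rfl fun c _ => ?_
    show S.L χ t (S.term χ _) = _ • S.term χ _
    rw [term, map_smul, S.eig_cf χ ⟨_, mul_mem (S.NK_le K c.out.2) S.n0_mem⟩ t ht, S.tw_NK' hK c.out.2, smul_comm]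
  · rw [map_sum]
    by_cases hs : s ∈ K
    · refine ⟨fun h => absurd hs h.2, fun _ => ?_⟩
      set s' : ↥(S.NK K) := ⟨s, S.gen_mem_NK K hs⟩
      refine Finset.sum_involution (fun c _ => s' • c) (fun c _ => ?_) (fun c _ _ hfix => ?_)
        (fun _ _ => Finset.mem_univ _) fun c _ => ?_
      · have e : tm (s' • c) = S.term χ ((s : G) * (c.out : ↥(S.NK K))) := by
          conv_lhs => rw [← QuotientGroup.out_eq' c]
          exact htm (s' * c.out)
        rw [e]
        set n := ((c.out : ↥(S.NK K)) : G) with hn'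
        have hn : n ∈ S.NK K := c.out.2
        show S.th (S.L χ) s (S.term χ n) + _ = 0
        by_cases ha : S.Asc s n
        · rw [(S.th_term hK hn ha).1 (hK s hs), S.th_term_desc hK hn hs ha, neg_add_cancel]
        · have hnN := S.NK_le K hn
          have hsn : (s : G) * n ∈ S.NK K := mul_mem (S.gen_mem_NK K hs) hn
          have ha' : S.Asc s ((s : G) * n) := by
            have h2 := BN.len_mul_ne s.2 hnN
            unfold Asc at ha ⊢
            rw [S.len_sq s hnN]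
            omega
          have e2 : S.term χ n = S.term χ ((s : G) * ((s : G) * n)) := by
            rw [show (s : G) * ((s : G) * n) = n * (n⁻¹ * S.h s (-1) * n) by rw [← S.sq]; group,
              S.term_tor hK hn (S.conjT hnN (S.h_mem s _))]
          conv_lhs => arg 1; rw [e2]
          rw [S.th_term_desc hK hsn hs ha', (S.th_term hK hsn ha').1 (hK s hs), add_neg_cancel]
      · have e : (QuotientGroup.mk (s' * c.out) : ↥(S.NK K) ⧸ T') = QuotientGroup.mk c.out := by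
          rw [QuotientGroup.out_eq']
          conv_rhs => rw [← hfix]
          conv_rhs => rw [← QuotientGroup.out_eq' c]
          rfl
        exact BN.not_same_mul s.2 (S.NK_le K c.out.2) (Subgroup.mem_subgroupOf.1 (QuotientGroup.eq.1 e.symm))
      · show s' • s' • c = c
        rw [smul_smul]
        conv_lhs => rw [← QuotientGroup.out_eq' c]
        conv_rhs => rw [← QuotientGroup.out_eq' c]
        refine (QuotientGroup.eq.2 ?_).symm
        show ((c.out : ↥(S.NK K)) : G)⁻¹ * ((s : G) * s * (c.out : ↥(S.NK K))) ∈ S.Tor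
        rw [S.sq, ← mul_assoc]
        exact S.conjT (S.NK_le K c.out.2) (S.h_mem s _)
    · have h := fun c : ↥(S.NK K) ⧸ T' => S.th_term hK c.out.2 (S.asc_of_not_mem K hs c.out.2)
      refine ⟨fun h' => ?_, fun h' => ?_⟩
      · rw [← Finset.sum_neg_distrib]
        exact Finset.sum_congr rfl fun c _ => (h c).1 h'.1
      · exact Finset.sum_eq_zero fun c _ => (h c).2 fun ht => h' ⟨ht, hs⟩

omit hK in
theorem exists_simple_quotient {W : Type*} [AddCommGroup W] [Module k W] [FiniteDimensional k W]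
    (τ : Representation k G W) {ψ : ↥S.Tor →* k} {J : Set S.P.S} (y : W) (hyw : S.IsWeight τ ψ J y)
    (hgen : ∀ z : W, z ∈ Submodule.span k (Set.range fun g => τ g y)) :
    ∃ (n : ℕ) (σ : Representation k G (Fin n → k)), σ.IsIrreducible ∧ ∃ v, S.IsWeight σ ψ J v := by
  letI : Fintype G := Fintype.ofFinite G
  obtain ⟨U, ⟨hU1, hU2⟩, hmax⟩ := wellFounded_gt.has_min
    {U : Submodule k W | (∀ g, ∀ x ∈ U, τ g x ∈ U) ∧ y ∉ U}
    ⟨⊥, fun g x hx => by rw [Submodule.mem_bot] at hx ⊢; rw [hx, map_zero],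
      fun h => hyw.1 ((Submodule.mem_bot _).1 h)⟩
  set q := Cfsg.Lib.Block.quotRep τ U hU1
  have hqy : U.mkQ y ≠ 0 := fun h => hU2 ((Submodule.Quotient.mk_eq_zero U).1 h)
  have hirr : q.IsIrreducible := by
    refine (Cfsg.Lib.Char.isIrreducible_iff_submodule q).2
      ⟨⟨⟨U.mkQ y, 0, hqy⟩⟩, fun P hP => ?_⟩
    have hstab : ∀ g, ∀ x ∈ P.comap U.mkQ, τ g x ∈ P.comap U.mkQ := fun g x hx => by
      show U.mkQ (τ g x) ∈ P
      rw [Cfsg.Lib.Block.quotRep_mkQ τ U hU1]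
      exact hP g _ hx
    by_cases hyP : U.mkQ y ∈ P
    · right
      rw [eq_top_iff]
      intro x _
      obtain ⟨z, rfl⟩ := U.mkQ_surjective x
      have hle : Submodule.span k (Set.range fun g => τ g y) ≤ P.comap U.mkQ := by
        rw [Submodule.span_le]
        rintro _ ⟨g, rfl⟩
        exact hstab g y hyP
      exact hle (hgen z)
    · left
      have hle : U ≤ P.comap U.mkQ := fun x hx => by
        show U.mkQ x ∈ P
        rw [show U.mkQ x = 0 from (Submodule.Quotient.mk_eq_zero U).2 hx]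
        exact zero_mem _
      have heq := eq_of_le_of_not_lt hle (hmax _ ⟨hstab, hyP⟩)
      rw [eq_bot_iff]
      intro x hx
      obtain ⟨z, rfl⟩ := U.mkQ_surjective x
      have : z ∈ U := heq ▸ hx
      exact (Submodule.mem_bot _).2 ((Submodule.Quotient.mk_eq_zero U).2 this)
  obtain ⟨n, σ, e, he, hσ⟩ := Cfsg.Lib.Block.exists_coordinates q
  exact ⟨n, σ, hσ hirr, _, S.weight_map e.toLinearMap he
    (S.weight_map U.mkQ (Cfsg.Lib.Block.quotRep_mkQ τ U hU1) hyw hqy) fun h => hqy (e.injective (by simpa using h))⟩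

omit hK in
/-- Every weight occurs in a simple module. -/
theorem exists_simple (ψ : ↥S.Tor →* k) (J : Set S.P.S) (hJ : ∀ s ∈ J, S.Triv ψ s) :
    ∃ (n : ℕ) (σ : Representation k G (Fin n → k)), σ.IsIrreducible ∧ ∃ v, S.IsWeight σ ψ J v := by
  classical
  set χ := S.tw ψ (⟨S.n0, S.n0_mem⟩⁻¹ : ↥S.P.N) with hχ
  have hψ : S.tw χ ⟨S.n0, S.n0_mem⟩ = ψ := by rw [hχ, S.tw_tw, mul_inv_cancel, S.tw_one]
  set K : Set S.P.S := {s | S.Triv ψ s ∧ s ∉ J}
  obtain ⟨f, hf⟩ := S.exists_weight_ind (K := K) (χ := χ) fun s hs => hψ.symm ▸ hs.1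
  rw [hψ] at hf
  have hJ' : {s | S.Triv ψ s ∧ s ∉ K} = J := Set.ext fun s => by
    simp only [K, Set.mem_setOf_eq]
    exact ⟨fun h => by_contra fun h' => h.2 ⟨h.1, h'⟩, fun h => ⟨hJ s h, fun h' => h'.2 h⟩⟩
  rw [hJ'] at hf
  set Y := Submodule.span k (Set.range fun g => S.L χ g f) with hY
  have hYinv : ∀ g, ∀ x ∈ Y, S.L χ g x ∈ Y := by
    intro g x hx
    induction hx using Submodule.span_induction with
    | mem x hx =>
      obtain ⟨a, rfl⟩ := hx
      exact Submodule.subset_span ⟨g * a, by simp [map_mul]⟩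
    | zero => rw [map_zero]; exact zero_mem _
    | add a b _ _ ha hb => rw [map_add]; exact add_mem ha hb
    | smul c a _ ha => rw [map_smul]; exact Submodule.smul_mem _ c ha
  letI : Fintype G := Fintype.ofFinite G
  set τ := Cfsg.Lib.Block.subRep (S.L χ) Y hYinv
  set y : Y := ⟨f, Submodule.subset_span ⟨1, by simp⟩⟩ with hy
  have hyw : S.IsWeight τ ψ J y := by
    obtain ⟨h1, h2, h3, h4, h5⟩ := hf
    have hth : ∀ s, ((S.th τ s y : Y) : ↥(S.Ind χ)) = S.th (S.L χ) s f := fun s =>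
      S.th_map Y.subtype (fun g x => rfl) s y
    refine ⟨fun h => h1 (congrArg Subtype.val h), fun u hu => Subtype.ext (h2 u hu), fun t ht => Subtype.ext (h3 t ht),
      h4, fun s => ⟨fun hs => Subtype.ext ?_, fun hs => Subtype.ext ?_⟩⟩
    · rw [hth]; exact (h5 s).1 hs
    · rw [hth]; exact (h5 s).2 hs
  have hgen : ∀ z : Y, z ∈ Submodule.span k (Set.range fun g => τ g y) := by
    have hle : Y ≤ (Submodule.span k (Set.range fun g => τ g y)).map Y.subtype := by
      rw [Submodule.map_span, ← Set.range_comp]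
      exact le_of_eq hY
    intro z
    obtain ⟨w, hw, e⟩ := hle z.2
    exact (Subtype.ext e : w = z) ▸ hw
  exact S.exists_simple_quotient τ y hyw hgen

end Split

end Cfsg.Lib.Chev.Weights
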