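import Mathlib
import Cfsg.Agent.Lib.Chev.Weights.Exist
import Cfsg.Agent.Lib.Block.TwistTrace
import Cfsg.Agent.Lib.Block.PrincipalNilpotent

/-!
The classes of elements of order prime to the characteristic of a group with a split `(B, N)`-pair are as many as
its weights.
-/

set_option autoImplicit false
set_option linter.unusedSectionVars false

namespace Cfsg.Lib.Chev.Weights

open Cfsg Cfsg.Lib.Linear

universe u

theorem card_regular_classes {H : Type u} [Group H] [Fintype H] {p : ℕ} [Fact p.Prime] {M : Ideal AlgInt}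
    (hM : IsPModular p M) {ι : Type u} [Fintype ι] {n : ι → ℕ}
    (ρ : ∀ i, Representation (Cfsg.Lib.Block.resField hM) H (Fin (n i) → Cfsg.Lib.Block.resField hM))
    (hirr : ∀ i, (ρ i).IsIrreducible) (hne : ∀ i j, i ≠ j → IsEmpty ((ρ i).Equiv (ρ j)))
    (hall : ∀ (m : ℕ) (σ : Representation (Cfsg.Lib.Block.resField hM) H (Fin m → Cfsg.Lib.Block.resField hM)),
      σ.IsIrreducible → ∃ i, Nonempty (σ.Equiv (ρ i))) :
    Nat.card {c : ConjClasses H // ∃ g : H, ConjClasses.mk g = c ∧ (orderOf g).Coprime p} = Fintype.card ι := by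
  classical
  open Cfsg.Lib.Block in
  · haveI := isAlgClosed_resField hM
    haveI := charP_resField hM
    letI := Fintype.ofFinite (RegX p H)
    set τ : ι → RegX p H → resField hM := fun i x => LinearMap.trace (resField hM) _ (ρ i (regRep x)) with hτ
    have hli : LinearIndependent (resField hM) τ := by
      rw [Fintype.linearIndependent_iff]
      intro c hc j
      refine linearIndependent_trace ρ hirr hne c (fun g => ?_) j
      have := congrFun hc (toX (p := p) g)
      simp only [Finset.sum_apply, Pi.smul_apply, smul_eq_mul, Pi.zero_apply, hτ] at this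
      rw [← this]
      exact Finset.sum_congr rfl fun i _ => by rw [trace_eq_toX hM (ρ i) g]
    have hsub : TraceSet hM (Set.univ : Set (IrrCharacter H)) ⊆ Set.range τ := by
      rintro f ⟨m, σ, hσ, -, hf⟩
      obtain ⟨i, ⟨e⟩⟩ := hall m σ hσ
      refine ⟨i, funext fun x => ?_⟩
      rw [hf]
      show LinearMap.trace _ _ (ρ i (regRep x)) = _
      rw [show ρ i (regRep x) = e.toLinearEquiv.conj (σ (regRep x)) from LinearMap.ext fun v => by
        rw [LinearEquiv.conj_apply_apply,
          show e.toLinearEquiv (σ (regRep x) (e.toLinearEquiv.symm v)) =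
            ρ i (regRep x) (e.toLinearEquiv (e.toLinearEquiv.symm v)) from
              LinearMap.congr_fun (e.isIntertwining' (regRep x)) _,
          LinearEquiv.apply_symm_apply], LinearMap.trace_conj']
    have hS : VInt hM (indVec (Set.univ : Set (IrrCharacter H))) := by
      intro g
      rw [show indVec (Set.univ : Set (IrrCharacter H)) = 1 from funext fun χ => by simp [indVec], zc_one]
      split_ifs
      · exact one_mem _
      · exact zero_mem _
    have hblk : blkA hM (Set.univ : Set (IrrCharacter H)) = 1 := by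
      rw [blkA, show indVec (Set.univ : Set (IrrCharacter H)) = 1 from funext fun χ => by simp [indVec]]
      exact cV_one hM
    have hspan : Submodule.span (resField hM) (Set.range τ) = ⊤ := by
      rw [eq_top_iff]
      intro h _
      refine Submodule.span_mono hsub ?_
      have := blkEval_mem_span hM (Set.univ : Set (IrrCharacter H)) hS h
      convert this using 1
      funext x
      rw [blkEval, LinearMap.comp_apply, LinearMap.mulLeft_apply, hblk, one_mul, evalFun_single, one_mul,
        toX_regRep]
    have h1 := finrank_span_eq_card hli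
    rw [hspan, finrank_top, Module.finrank_fintype_fun_eq_card] at h1
    rw [← h1, ← Nat.card_eq_fintype_card]
    refine Nat.card_congr (Equiv.subtypeEquiv (Equiv.refl _) fun c => ?_)
    simp only [Equiv.refl_apply, Set.mem_range, regCls]
    constructor
    · rintro ⟨g, e, hg⟩
      refine ⟨g, ?_⟩
      rw [pReg_eq_of_isPRegular ((coprime_orderOf_iff g).1 hg), e]
    · rintro ⟨g, e⟩
      exact ⟨pReg p g, e, (coprime_orderOf_iff _).2 (not_dvd_orderOf_pReg g)⟩

variable {G : Type u} [Group G] [Finite G] {F : Type*} [Field F] [Fintype F] {p : ℕ} [Fact p.Prime]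
  [CharP F p] (S : Split G F p)

/-- Coordinates on the torus given by the coroots. -/
theorem card_semisimple_classes (E : (S.P.S → Fˣ) ≃* ↥S.Tor)
    (hE : ∀ (s : S.P.S) (v : Fˣ) [DecidableEq S.P.S], (E (Pi.mulSingle s v) : G) = S.h s v) :
    Nat.card {c : ConjClasses G // ∃ g : G, ConjClasses.mk g = c ∧ (orderOf g).Coprime p} =
      Nat.card F ^ Nat.card S.P.S := by
  classical
  letI : Fintype G := Fintype.ofFinite G
  obtain ⟨M, hM⟩ := Cfsg.Lib.Block.exists_isPModular (Fact.out : p.Prime)
  set k := Cfsg.Lib.Block.resField hM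
  haveI : IsAlgClosed k := Cfsg.Lib.Block.isAlgClosed_resField hM
  haveI : CharP k p := Cfsg.Lib.Block.charP_resField hM
  letI : Fintype S.P.S := Fintype.ofFinite _
  set Wt := {w : (↥S.Tor →* k) × Set S.P.S // ∀ s ∈ w.2, S.Triv w.1 s}
  -- weights in coordinates
  have hchar : ∀ (s : S.P.S) (θ : ↥S.Tor →* k) (v : Fˣ),
      S.ev θ (S.h s v) = θ (E (Pi.mulSingle s v)) := fun s θ v => by
    rw [S.ev_eq θ (S.h_mem s v)]
    exact congrArg θ (Subtype.ext (hE s v).symm)
  let toC : Wt → (S.P.S → Option (Fˣ →* kˣ)) := fun w s =>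
    if s ∈ w.1.2 then none
    else some ((w.1.1.comp (E.toMonoidHom.comp (MonoidHom.mulSingle (fun _ : S.P.S => Fˣ) s))).toHomUnits)
  let ofC : (S.P.S → Option (Fˣ →* kˣ)) → ↥S.Tor →* k := fun c =>
    { toFun := fun t => ∏ s, (((c s).getD 1) (E.symm t s) : k)
      map_one' := by simp
      map_mul' := fun a b => by simp [Finset.prod_mul_distrib] }
  have hofC : ∀ c s v, S.ev (ofC c) (S.h s v) = (((c s).getD 1) v : k) := by
    intro c s v
    rw [hchar]
    show ∏ r, (((c r).getD 1) (E.symm (E (Pi.mulSingle s v)) r) : k) = _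
    rw [MulEquiv.symm_apply_apply, Finset.prod_eq_single s]
    · rw [Pi.mulSingle_eq_same]
    · intro r _ hr
      rw [Pi.mulSingle_eq_of_ne hr, map_one, Units.val_one]
    · simp
  have hext : ∀ θ θ' : ↥S.Tor →* k, (∀ s v, S.ev θ (S.h s v) = S.ev θ' (S.h s v)) → θ = θ' := by
    intro θ θ' h
    refine MonoidHom.ext fun t => ?_
    obtain ⟨f, rfl⟩ := E.surjective t
    exact DFunLike.congr_fun (MonoidHom.pi_ext (f := θ.comp E.toMonoidHom) (g := θ'.comp E.toMonoidHom)
      fun s v => by
        show θ (E (Pi.mulSingle s v)) = θ' (E (Pi.mulSingle s v))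
        rw [← hchar, h, hchar]) f
  let e : Wt ≃ (S.P.S → Option (Fˣ →* kˣ)) :=
    { toFun := toC
      invFun := fun c => ⟨(ofC c, {s | c s = none}), fun s hs v => by
        rw [hofC, show c s = none from hs]; simp⟩
      left_inv := fun w => by
        have hset : ({s | toC w s = none} : Set S.P.S) = w.1.2 := Set.ext fun s => by
          simp only [toC, Set.mem_setOf_eq]
          split_ifs with h <;> simp [h]
        refine Subtype.ext (Prod.ext (hext _ _ fun s v => ?_) hset)
        show S.ev (ofC (toC w)) _ = _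
        rw [hofC]
        by_cases h : s ∈ w.1.2
        · simp [toC, h, w.2 s h v]
        · simp only [toC, if_neg h, Option.getD_some]
          rw [hchar]
          rfl
      right_inv := fun c => funext fun s => by
        show toC ⟨(ofC c, {r | c r = none}), _⟩ s = c s
        simp only [toC, Set.mem_setOf_eq]
        split_ifs with h
        · exact h.symm
        · obtain ⟨θ, hθ⟩ := Option.ne_none_iff_exists'.1 h
          rw [hθ]
          congr 1
          refine MonoidHom.ext fun v => Units.ext ?_
          show ofC c (E (Pi.mulSingle s v)) = _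
          rw [← hchar, hofC, hθ, Option.getD_some] }
  have hhom : Nat.card (Fˣ →* kˣ) = Fintype.card Fˣ := by
    haveI : NeZero ((Monoid.exponent Fˣ : ℕ) : k) := by
      refine ⟨fun h => ?_⟩
      rw [IsCyclic.exponent_eq_card, Nat.card_eq_fintype_card, CharP.cast_eq_zero_iff k p, Fintype.card_units] at h
      obtain ⟨m, -, hm⟩ := FiniteField.card F p
      have h1 : p ∣ Fintype.card F := hm ▸ dvd_pow_self p m.ne_zero
      have h2 := Nat.dvd_sub h1 h
      rw [Nat.sub_sub_self Fintype.card_pos] at h2
      exact (Fact.out : p.Prime).not_dvd_one h2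
    rw [CommGroup.card_monoidHom_of_hasEnoughRootsOfUnity Fˣ k, Nat.card_eq_fintype_card]
  haveI : Finite (Fˣ →* kˣ) := Nat.finite_of_card_ne_zero (by rw [hhom]; exact Fintype.card_ne_zero)
  haveI : Finite Wt := Finite.of_equiv _ e.symm
  letI : Fintype Wt := Fintype.ofFinite _
  have hcard : Fintype.card Wt = Nat.card F ^ Nat.card S.P.S := by
    rw [← Nat.card_eq_fintype_card, Nat.card_congr e, Nat.card_fun, Finite.card_option, hhom,
      Fintype.card_units, Nat.card_eq_fintype_card (α := F), Nat.sub_add_cancel Fintype.card_pos]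
  choose n σ hσ v hv using fun w : Wt => S.exists_simple w.1.1 w.1.2 w.2
  rw [← hcard]
  have hiso : ∀ (w : Wt) (m : ℕ) (τ : Representation k G (Fin m → k)), Nonempty (τ.Equiv (σ w)) →
      ∀ x, S.IsWeight (σ w) w.1.1 w.1.2 x → ∃ y, S.IsWeight τ w.1.1 w.1.2 y := by
    rintro w m τ ⟨e'⟩ x hx
    exact ⟨_, S.weight_map e'.symm.toLinearEquiv.toLinearMap
      (fun g z => LinearMap.congr_fun (e'.symm.isIntertwining' g) z) hx
      fun h => hx.1 (e'.symm.toLinearEquiv.injective (by simpa using h))⟩
  refine card_regular_classes hM (fun w => σ w) hσ (fun w w' hww => ⟨fun e' => hww ?_⟩) fun m τ hτ => ?_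
  · obtain ⟨y, hy⟩ := hiso w' _ (σ w) ⟨e'⟩ _ (hv w')
    obtain ⟨h1, h2⟩ := S.weight_unique (hσ w) (hv w) hy
    exact Subtype.ext (Prod.ext h1 h2)
  · haveI : Nontrivial (Fin m → k) := ((Cfsg.Lib.Char.isIrreducible_iff_submodule τ).1 hτ).1
    obtain ⟨ψ, J, y, hy⟩ := S.exists_weight τ
    let w : Wt := ⟨(ψ, J), hy.2.2.2.1⟩
    exact ⟨w, S.equiv_of_weight hτ (hσ w) hy (hv w)⟩

end Cfsg.Lib.Chev.Weights
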