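import Mathlib
import Cfsg.Agent.Lib.Chev.Weights.Count
import Cfsg.Agent.Lib.Chev.TwoBlocks
import Cfsg.Agent.Lib.Chev.Order
import Cfsg.Agent.Lib.Chev.SLTwo
import Cfsg.Agent.Lib.Chev.NormalForm
import Cfsg.Agent.Lib.Chev.RootCent

/-!
The Chevalley groups as split `(B, N)`-pairs, and the number of their semisimple classes when the torus has full
order.
-/

set_option autoImplicit false
set_option linter.unusedSectionVars false

namespace Cfsg.Lib.Chev.Weights

open Cfsg Cfsg.Lie Cfsg.Lib.Chev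

variable {D : ChevalleyDatum} {T : Tbl} {F : Type*} [Field F] (C : Cert D T) (K : FullCert D T)

theorem rel_slTwo {G : Type*} [Group G] (R : SLTwoRel F G) {a : F} (ha : a ≠ 0) :
    R.n 1 * R.x a * R.n 1 = R.x (-a⁻¹) * (R.n 1 * R.h (-a)) * R.x (-a⁻¹) := by
  have h11 : R.h (-1) * R.h (-1) = 1 := by
    rw [R.h_mul _ _ (neg_ne_zero.2 one_ne_zero) (neg_ne_zero.2 one_ne_zero), neg_mul_neg, one_mul, R.h_one]
  have hn : ∀ u : F, u ≠ 0 → R.h u⁻¹ * R.n 1 = R.n 1 * R.h u := by
    intro u hu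
    have e1 : R.h u⁻¹ * R.n 1 = R.n u⁻¹ := R.h_n_one (inv_ne_zero hu)
    have e2 : (R.n (-u⁻¹))⁻¹ = R.n u⁻¹ := by rw [R.n_inv (neg_ne_zero.2 (inv_ne_zero hu)), neg_neg]
    have e3 : (R.n 1)⁻¹ = R.n 1 * R.h (-1) := by
      refine inv_eq_of_mul_eq_one_right ?_
      rw [← mul_assoc, R.n_one_sq, h11]
    have e4 : (R.h (-u⁻¹))⁻¹ = R.h (-u) := by
      refine inv_eq_of_mul_eq_one_right ?_
      rw [R.h_mul _ _ (neg_ne_zero.2 (inv_ne_zero hu)) (neg_ne_zero.2 hu), neg_mul_neg, inv_mul_cancel₀ hu, R.h_one]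
    rw [e1, ← e2, ← R.h_n_one (neg_ne_zero.2 (inv_ne_zero hu)), mul_inv_rev, e3, e4, mul_assoc,
      R.h_mul _ _ (neg_ne_zero.2 one_ne_zero) (neg_ne_zero.2 hu), neg_mul_neg, one_mul]
  have hc : R.x (-a⁻¹) * R.h (-1) = R.h (-1) * R.x (-a⁻¹) := by
    have := R.h_conj (-1) (-a⁻¹) (neg_ne_zero.2 one_ne_zero)
    rw [show (-1 : F) ^ 2 * -a⁻¹ = -a⁻¹ by ring, mul_inv_eq_iff_eq_mul] at this
    exact this.symm
  have e : R.n 1 * R.x a * R.n 1 = R.y (-a) * R.h (-1) := by
    rw [← R.n_conj, ← R.n_one_sq]; group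
  have hy : R.y (-a) = R.x (-a⁻¹) * (R.h a⁻¹ * R.n 1) * R.x (-a⁻¹) := by
    rw [R.y_eq (neg_ne_zero.2 ha), inv_neg, neg_neg, R.h_n_one (inv_ne_zero ha)]
  rw [e, hy, hn a ha]
  calc R.x (-a⁻¹) * (R.n 1 * R.h a) * R.x (-a⁻¹) * R.h (-1)
      = R.x (-a⁻¹) * (R.n 1 * R.h a) * (R.x (-a⁻¹) * R.h (-1)) := by group
    _ = R.x (-a⁻¹) * (R.n 1 * (R.h a * R.h (-1))) * R.x (-a⁻¹) := by rw [hc]; group
    _ = _ := by rw [R.h_mul _ _ ha (neg_ne_zero.2 one_ne_zero), mul_neg_one]

include C in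
theorem torusHom_conj_xg (c : Fin D.rank → Fˣ) {r : ℕ} (hr : r < D.nroots) (a : F) :
    torusHom D T F c * xg C r a * (torusHom D T F c)⁻¹ = xg C r (chr T D (extend' c) r * a) := by
  rw [mul_inv_eq_iff_eq_mul]
  refine Units.ext ?_
  rw [Units.val_mul, Units.val_mul, coe_torusHom, coe_xg, coe_xg,
    scal_mul_x C.spec _ (fun j _ => extend'_ne c j) hr]

include C in
theorem hg_eq_torusHom {i : ℕ} (hi : i < D.rank) (v : Fˣ) :
    hg C (T.simp' i) (v : F) = torusHom D T F (Pi.mulSingle ⟨i, hi⟩ v) := by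
  refine Units.ext ?_
  rw [coe_hg_eq C (C.spec.simp_lt i hi) v.ne_zero, coDiag_simple C hi, dModel_eq_scal hi, coe_torusHom]
  congr 1
  funext j
  by_cases hj : j < D.rank
  · simp only [extend', dif_pos hj]
    by_cases h : j = i
    · subst h; simp
    · rw [if_neg h, Pi.mulSingle_eq_of_ne (fun e => h (Fin.mk.inj_iff.1 e)), Units.val_one]
  · simp only [extend', dif_neg hj]
    rw [if_neg (fun h : j = i => hj (h ▸ hi))]

include C K in
/-- Conjugation of the torus by a simple reflection. -/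
theorem nu_conj_torus {i : ℕ} (hi : i < D.rank) {t : GL D.Idx F} (ht : t ∈ D.diagonalSubgroup F) :
    ∃ v : Fˣ, (nu C i)⁻¹ * t * nu C i = t * hg C (T.simp' i) (v : F) := by
  obtain ⟨c, rfl⟩ := (torusHom_range C (F := F)).ge ht
  have hne : chr T D (extend' c) (T.simp' i) ≠ 0 := chr_ne_zero _ (fun j _ => extend'_ne c j) _
  refine ⟨(Units.mk0 _ hne)⁻¹, ?_⟩
  set v := (Units.mk0 _ hne)⁻¹ with hv
  set c' : Fin D.rank → Fˣ := c * Pi.mulSingle ⟨i, hi⟩ v
  have hR : torusHom D T F c * hg C (T.simp' i) (v : F) = torusHom D T F c' := by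
    rw [hg_eq_torusHom C hi, ← map_mul]
  rw [hR]
  have hL : (nu C i)⁻¹ * torusHom D T F c * nu C i ∈ D.diagonalSubgroup F :=
    (conj_mem_diag C (nu_mem C i hi) ((torusHom_range C (F := F)).le ⟨c, rfl⟩)).2
  refine inv_mul_eq_one.1 (diag_eq_one_of_comm C (h := (torusHom D T F c')⁻¹ *
    ((nu C i)⁻¹ * torusHom D T F c * nu C i)) (mul_mem (inv_mem ((torusHom_range C (F := F)).le ⟨c', rfl⟩)) hL)
    fun r hr => ?_) |>.symm
  rw [← mul_inv_eq_iff_eq_mul]
  have hr' := C.spec.refl_lt i hi r hr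
  have hchr : chr T D (extend' c') r = chr T D (extend' c) (T.refl' i r) := by
    have h1 : chr T D (extend' c') r = chr T D (extend' c) r * (v : F) ^ T.cartan i r := by
      rw [← chr_update (T := T) hi (v : F) r]
      simp only [chr, ← Finset.prod_mul_distrib, ← mul_zpow]
      refine Finset.prod_congr rfl fun j hj => ?_
      rw [Finset.mem_range] at hj
      simp only [extend', dif_pos hj, c', Pi.mul_apply, Units.val_mul]
      by_cases h : j = i
      · subst h; simp
      · rw [if_neg h, Pi.mulSingle_eq_of_ne (fun e => h (Fin.mk.inj_iff.1 e)), Units.val_one]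
    rw [h1, hv, Units.val_inv_eq_inv_val, Units.val_mk0, inv_zpow]
    simp only [chr, ← Finset.prod_zpow, ← Finset.prod_inv_distrib, ← Finset.prod_mul_distrib]
    refine Finset.prod_congr rfl fun j hj => ?_
    rw [Finset.mem_range] at hj
    rw [C.spec.cart_refl i hi j hj r hr, zpow_sub₀ (extend'_ne c j), ← zpow_mul, mul_comm (T.cartan i r),
      div_eq_mul_inv]
  have e0 := torusHom_conj_xg C c' hr (1 : F)
  have e1 := nu_conj_xg C hi hr (1 : F)
  have e2 := torusHom_conj_xg C c hr' ((T.eta' i r : ℤ) * (1 : F))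
  have e3 := nu_conj_xg C hi hr (chr T D (extend' c) (T.refl' i r) * 1)
  set tc := torusHom D T F c
  set tc' := torusHom D T F c'
  have e4 : (nu C i)⁻¹ * tc * nu C i * xg C r 1 * ((nu C i)⁻¹ * tc * nu C i)⁻¹ =
      xg C r (chr T D (extend' c') r * 1) := by
    rw [hchr]
    calc _ = (nu C i)⁻¹ * (tc * (nu C i * xg C r 1 * (nu C i)⁻¹) * tc⁻¹) * nu C i := by group
      _ = (nu C i)⁻¹ * xg C (T.refl' i r) ((T.eta' i r : ℤ) * (chr T D (extend' c) (T.refl' i r) * 1)) * nu C i := by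
        rw [e1, e2]; congr 2; ring
      _ = _ := by rw [← e3]; group
  calc tc'⁻¹ * ((nu C i)⁻¹ * tc * nu C i) * xg C r 1 * (tc'⁻¹ * ((nu C i)⁻¹ * tc * nu C i))⁻¹
      = tc'⁻¹ * ((nu C i)⁻¹ * tc * nu C i * xg C r 1 * ((nu C i)⁻¹ * tc * nu C i)⁻¹) * tc' := by group
    _ = _ := by rw [e4, ← e0]; group

include C K in
/-- The inverse image of a simple root subgroup under a monomial element is a root subgroup. -/
theorem conj_simple {n : GL D.Idx F} (hn : n ∈ D.monomialSubgroup F) {i : ℕ} (hi : i < D.rank) :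
    ∃ r, r < D.nroots ∧ (∀ a : F, ∃ b, n⁻¹ * xg C (T.simp' i) a * n = xg C r b) ∧
      ∀ a : F, ∃ b, n⁻¹ * xg C (T.neg (T.simp' i)) a * n = xg C (T.neg r) b := by
  obtain ⟨w, hw, h, hh, rfl⟩ := (mem_monomial C).1 hn
  set r := wperm T w.reverse (T.simp' i)
  have hp := C.spec.simp_lt i hi
  have hr : r < D.nroots := wperm_lt C hw.reverse hp
  have hwr : wperm T w r = T.simp' i := by
    have := wperm_reverse C hw.reverse hp
    rwa [List.reverse_reverse] at this
  obtain ⟨χ, hχ⟩ := diag_conj_xg C (inv_mem hh)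
  have key : ∀ s, s < D.nroots → ∀ a : F, ∃ b,
      (wnu C F w * h)⁻¹ * xg C (wperm T w s) a * (wnu C F w * h) = xg C s b := by
    intro s hs a
    obtain ⟨d, hd, hdt⟩ := wnu_conj_xg C (F := F) hw hs
    refine ⟨χ s * (d * a), ?_⟩
    have e : xg C (wperm T w s) a = wnu C F w * xg C s (d * a) * (wnu C F w)⁻¹ := by
      rw [hdt, ← mul_assoc, hd, one_mul]
    rw [e, ← (hχ s hs).2 (d * a)]
    group
  refine ⟨r, hr, fun a => hwr ▸ key r hr a, fun a => ?_⟩
  have := key _ (C.spec.neg_lt r hr) a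
  rwa [wperm_neg C hw hr, hwr] at this

include C K in
theorem nu_inv_conj_simple {i : ℕ} (hi : i < D.rank) (a : F) :
    ∃ b, (nu C i)⁻¹ * xg C (T.simp' i) a * nu C i = xg C (T.neg (T.simp' i)) b := by
  have hp := C.spec.simp_lt i hi
  refine ⟨(T.eta' i (T.neg (T.simp' i)) : ℤ) * a, ?_⟩
  have h := nu_conj_xg C hi (C.spec.neg_lt _ hp) (((T.eta' i (T.neg (T.simp' i)) : ℤ) : F) * a)
  rw [C.spec.refl_neg i hi _ hp, C.spec.refl_simple i hi, C.spec.neg_neg _ hp, ← mul_assoc, eta_sq, one_mul] at h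
  rw [← h]
  group

variable [Fintype F] (p : ℕ) [Fact p.Prime] [CharP F p]

include C in
theorem not_dvd_card_diag : ¬ p ∣ Nat.card ↥(D.diagonalSubgroup F) := by
  classical
  intro h
  have h1 : Nat.card ↥(torusHom D T F).range ∣ Nat.card (Fin D.rank → Fˣ) := Subgroup.card_range_dvd _
  rw [torusHom_range C, Nat.card_fun, Nat.card_units, Nat.card_eq_fintype_card (α := F)] at h1
  have h2 : p ∣ Fintype.card F - 1 := (Fact.out : p.Prime).dvd_of_dvd_pow (h.trans h1)
  obtain ⟨m, -, hm⟩ := FiniteField.card F p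
  have h3 := Nat.dvd_sub (hm ▸ dvd_pow_self p m.ne_zero : p ∣ Fintype.card F) h2
  rw [Nat.sub_sub_self Fintype.card_pos] at h3
  exact (Fact.out : p.Prime).not_dvd_one h3

/-- The index of a generator. -/
noncomputable def gidx (s : (bnPair C K F).S) : Fin D.rank :=
  ⟨(Set.mem_setOf_eq.mp s.2).choose, (Set.mem_setOf_eq.mp s.2).choose_spec.1⟩

theorem coe_gen (s : (bnPair C K F).S) : (((s : ↥(D.group F))) : GL D.Idx F) = nu C (gidx C K s) :=
  (eq_nu_iff C (gidx C K s).2).1 (Set.mem_setOf_eq.mp s.2).choose_spec.2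

include C in
theorem mem_tor {t : ↥(D.group F)} :
    t ∈ (bnPair C K F).B ⊓ (bnPair C K F).N ↔ (t : GL D.Idx F) ∈ D.diagonalSubgroup F := by
  rw [← borel_inf_monomial C]
  exact Iff.rfl

/-- The split pair of a Chevalley group. -/
noncomputable def chevSplit : Split ↥(D.group F) F p where
  P := bnPair C K F
  U := (D.posUnipotent F).subgroupOf (D.group F)
  pU := isPGroup_posUnipotent C K p
  U_le := fun u hu => Subgroup.mem_sup_left (show (u : GL D.Idx F) ∈ D.posUnipotent F from hu)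
  split := fun b hb => by
    obtain ⟨u, hu, h, hh, e⟩ := (mem_borel C).1 (show (b : GL D.Idx F) ∈ D.borelSubgroup F from hb)
    exact ⟨⟨u, pos_le_group C hu⟩, hu, ⟨h, diag_le_group C hh⟩, (mem_tor C K).2 hh, Subtype.ext e⟩
  norm := fun t ht u hu => by
    exact (Subgroup.mem_normalizer_iff.1 (diag_le_normalizer C ((mem_tor C K).1 ht)) _).1 hu
  comm := fun a ha b hb => by
    obtain ⟨c, hc⟩ := (torusHom_range C (F := F)).ge ((mem_tor C K).1 ha)
    obtain ⟨d, hd⟩ := (torusHom_range C (F := F)).ge ((mem_tor C K).1 hb)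
    refine Subtype.ext ?_
    rw [Subgroup.coe_mul, Subgroup.coe_mul, ← hc, ← hd, ← map_mul, ← map_mul, mul_comm]
  coprime := by
    have e : (bnPair C K F).B ⊓ (bnPair C K F).N = (D.diagonalSubgroup F).subgroupOf (D.group F) :=
      Subgroup.ext fun t => mem_tor C K
    rw [e, Nat.card_congr (Subgroup.subgroupOfEquivOfLe (diag_le_group C)).toEquiv]
    exact not_dvd_card_diag C p
  x := fun s a => ⟨xg C (T.simp' (gidx C K s)) a, xg_mem_group C _ _⟩
  x_mem := fun s a => xg_mem_pos C (C.spec.simp_lt _ (gidx C K s).2) (K.simple_pos (gidx C K s).2) a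
  x_add := fun s a b => Subtype.ext (xg_add C _ _ _)
  R := fun s => (D.unipotentRadical F {((gidx C K s : Fin D.rank) : ℕ)}).subgroupOf (D.group F)
  R_le := fun s r hr => radical_le_pos C _ hr
  R_conj := fun s r hr => by
    have hn := levi_le_normalizer C K {((gidx C K s : Fin D.rank) : ℕ)}
      (nu_mem_levi C (F := F) (gidx C K s).2 (Set.mem_singleton _))
    refine radical_le_pos C {((gidx C K s : Fin D.rank) : ℕ)} ?_
    show ((((s : ↥(D.group F)))⁻¹ * r * (s : ↥(D.group F)) : ↥(D.group F)) : GL D.Idx F) ∈ _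
    simp only [Subgroup.coe_mul, InvMemClass.coe_inv, coe_gen]
    refine (Subgroup.mem_normalizer_iff.1 hn _).2 ?_
    have e : nu C (gidx C K s) * ((nu C (gidx C K s))⁻¹ * (r : GL D.Idx F) * nu C (gidx C K s)) *
        (nu C (gidx C K s))⁻¹ = (r : GL D.Idx F) := by group
    rw [e]
    exact hr
  decomp := fun s u hu => by
    obtain ⟨v, hv, t, e⟩ := pos_decomp C K (gidx C K s).2 (inv_mem (show (u : GL D.Idx F) ∈ D.posUnipotent F from hu))
    refine ⟨-t, ⟨v⁻¹, pos_le_group C (radical_le_pos C _ (inv_mem hv))⟩, inv_mem hv, Subtype.ext ?_⟩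
    show (u : GL D.Idx F) = xg C _ (-t) * v⁻¹
    rw [← xg_inv, ← mul_inv_rev, ← e, inv_inv]
  h := fun s =>
    { toFun := fun v => ⟨hg C (T.simp' (gidx C K s)) v,
        diag_le_group C (hg_mem C (C.spec.simp_lt _ (gidx C K s).2) v.ne_zero)⟩
      map_one' := Subtype.ext (show hg C _ ((1 : Fˣ) : F) = 1 by
        rw [hg_eq_torusHom C (gidx C K s).2, Pi.mulSingle_one, map_one])
      map_mul' := fun v w => Subtype.ext (by
        show hg C _ ((v * w : Fˣ) : F) = hg C _ (v : F) * hg C _ (w : F)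
        rw [hg_mul C (C.spec.simp_lt _ (gidx C K s).2) v.ne_zero w.ne_zero, Units.val_mul]) }
  h_mem := fun s v => (mem_tor C K).2 (hg_mem C (C.spec.simp_lt _ (gidx C K s).2) v.ne_zero)
  sq := fun s => Subtype.ext (by
    show ((s : ↥(D.group F)) : GL D.Idx F) * (s : ↥(D.group F)) = hg C _ ((-1 : Fˣ) : F)
    rw [coe_gen, nu_sq C (gidx C K s).2, Units.val_neg, Units.val_one])
  rel := fun s a => by
    refine ⟨-(a : F)⁻¹, -(a : F)⁻¹, Subtype.ext ?_⟩
    simp only [Subgroup.coe_mul, coe_gen]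
    exact rel_slTwo (rootRel C (C.spec.simp_lt _ (gidx C K s).2)) a.ne_zero
  conj := fun s t ht => by
    obtain ⟨v, hv⟩ := nu_conj_torus C K (gidx C K s).2 ((mem_tor C K).1 ht)
    refine ⟨v, Subtype.ext ?_⟩
    simp only [Subgroup.coe_mul, InvMemClass.coe_inv, coe_gen]
    exact hv
  dich := fun s n hn => by
    obtain ⟨r, hr, h1, h2⟩ := conj_simple C K (show (n : GL D.Idx F) ∈ D.monomialSubgroup F from hn) (gidx C K s).2
    by_cases hp : D.nroots ≤ 2 * r
    · left
      intro a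
      obtain ⟨b, e⟩ := h1 a
      show ((n⁻¹ * _ * n : ↥(D.group F)) : GL D.Idx F) ∈ D.posUnipotent F
      simp only [Subgroup.coe_mul, InvMemClass.coe_inv, e]
      exact xg_mem_pos C hr hp b
    · right
      intro a
      obtain ⟨c, ec⟩ := nu_inv_conj_simple C K (gidx C K s).2 a
      obtain ⟨b, e⟩ := h2 c
      show (((((s : ↥(D.group F)) * n)⁻¹ * _ * ((s : ↥(D.group F)) * n)) : ↥(D.group F)) : GL D.Idx F) ∈ D.posUnipotent F
      simp only [Subgroup.coe_mul, InvMemClass.coe_inv, coe_gen, mul_inv_rev]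
      rw [show ∀ m u x : GL D.Idx F, m⁻¹ * u⁻¹ * x * (u * m) = m⁻¹ * (u⁻¹ * x * u) * m from fun m u x => by group,
        ec, e]
      exact xg_mem_pos C (C.spec.neg_lt r hr) ((K.neg_pos_iff hr).2 (by omega)) b
  n0 := ⟨wnu C F (exists_opposition C K (F := F)).choose, wnu_mem_group C (exists_opposition C K (F := F)).choose_spec.1⟩
  n0_mem := wnu_mem C (exists_opposition C K (F := F)).choose_spec.1
  n0_inter := fun u hu hu' => by
    obtain ⟨hw, hmap⟩ := (exists_opposition C K (F := F)).choose_spec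
    refine Subtype.ext (neg_inf_pos C K (show (u : GL D.Idx F) ∈ D.posUnipotent F from hu) ?_)
    rw [← hmap]
    refine ⟨_, Subgroup.mem_subgroupOf.1 hu', ?_⟩
    simp [mul_assoc]

include C K in
/-- The semisimple classes when the torus has full order. -/
theorem card_semisimple {d : Fin D.rank → ℕ} (hT : TorusCert D T d) (hd : ∀ k, (Nat.card F - 1).gcd (d k) = 1) :
    Nat.card {c : ConjClasses ↥(D.group F) // ∃ g : ↥(D.group F), ConjClasses.mk g = c ∧ (orderOf g).Coprime p} =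
      Nat.card F ^ D.rank := by
  classical
  haveI : Finite (GL D.Idx F) := inferInstance
  set S := chevSplit C K (F := F) p
  have hinj : Function.Injective (gidx C K (F := F)) := fun s t h =>
    Subtype.ext (Subtype.ext (by rw [coe_gen, coe_gen, h]))
  have hsurj : Function.Surjective (gidx C K (F := F)) := fun i => by
    let s : (bnPair C K F).S :=
      ⟨⟨nu C i, monomial_le_group C (nu_mem C i i.2)⟩, ⟨i, i.2, (eq_nu_iff C i.2).2 rfl⟩⟩
    refine ⟨s, Fin.ext (nu_inj C K (gidx C K s).2 i.2 (F := F) ?_)⟩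
    rw [← coe_gen C K s]
    simp [s]
  let e : S.P.S ≃ Fin D.rank := Equiv.ofBijective (gidx C K (F := F)) ⟨hinj, hsurj⟩
  have hcard := hT.card C (F := F)
  simp only [hd, Finset.prod_const_one, one_mul] at hcard
  let φ : (S.P.S → Fˣ) →* ↥S.Tor :=
    { toFun := fun f => ⟨⟨torusHom D T F (fun j => f (e.symm j)),
          diag_le_group C ((torusHom_range C (F := F)).le ⟨_, rfl⟩)⟩,
        (mem_tor C K).2 ((torusHom_range C (F := F)).le ⟨_, rfl⟩)⟩
      map_one' := Subtype.ext (Subtype.ext (map_one _))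
      map_mul' := fun a b => Subtype.ext (Subtype.ext (map_mul (torusHom D T F) _ _)) }
  have hsur : Function.Surjective φ := fun t => by
    obtain ⟨c, hc⟩ := (torusHom_range C (F := F)).ge ((mem_tor C K).1 t.2)
    refine ⟨fun s => c (e s), Subtype.ext (Subtype.ext ?_)⟩
    show torusHom D T F (fun j => c (e (e.symm j))) = _
    rw [← hc]
    congr 1
    funext j
    rw [e.apply_symm_apply]
  have hTc : Nat.card ↥S.Tor = Nat.card (S.P.S → Fˣ) := by
    have e1 : S.Tor = (D.diagonalSubgroup F).subgroupOf (D.group F) := Subgroup.ext fun t => mem_tor C K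
    rw [e1, Nat.card_congr (Subgroup.subgroupOfEquivOfLe (diag_le_group C)).toEquiv, hcard, Nat.card_fun,
      Nat.card_congr e, Nat.card_fin, Nat.card_units]
  have hbij : Function.Bijective φ := hsur.bijective_of_nat_card_le hTc.ge
  have h := card_semisimple_classes S (MulEquiv.ofBijective φ hbij) (fun s v _ => ?_)
  · rw [h, Nat.card_congr e, Nat.card_fin]
  · refine Subtype.ext ?_
    show torusHom D T F (fun j => (Pi.mulSingle s v : S.P.S → Fˣ) (e.symm j)) = hg C _ (v : F)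
    rw [hg_eq_torusHom C (gidx C K s).2]
    congr 1
    funext j
    by_cases h : j = gidx C K s
    · subst h
      rw [show e.symm (gidx C K s) = s from e.symm_apply_apply s, Pi.mulSingle_eq_same, Fin.eta, Pi.mulSingle_eq_same]
    · rw [Pi.mulSingle_eq_of_ne (fun h' => h (by rw [← h']; exact (e.apply_symm_apply j).symm)), Fin.eta,
        Pi.mulSingle_eq_of_ne h]

end Cfsg.Lib.Chev.Weights
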